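import Groth.Agent.MaxTorImg10.Complement
import Groth.Agent.MaxTorConj10.Main
import Groth.Agent.BorelImg10.Main
import Groth.Agent.MonoEndo26.Descent
import Groth.Agent.SGA3cLib.MonoClosed

/-! # The image of a maximal torus is a maximal torus -/

set_option autoImplicit false
set_option linter.style.haveILetI false
set_option backward.isDefEq.respectTransparency false

noncomputable section

universe u

open CategoryTheory CategoryTheory.Limits MonoidalCategory CartesianMonoidalCategory MonObj GrpObj AlgebraicGeometry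

namespace Groth.Agent.MaxTorImg10

open AGFQuot23 MaxTorConj10

variable {k : Type u} [Field k]

theorem isMonHom_of_comp_mono {A B C : Over (Spec (CommRingCat.of k))} [GrpObj A] [GrpObj B] [GrpObj C]
    (f : A ⟶ B) (g : B ⟶ C) [IsMonHom g] [Mono g] (h : IsMonHom (f ≫ g)) : IsMonHom f := by
  haveI := h
  constructor
  · rw [← cancel_mono g, Category.assoc, IsMonHom.one_hom (f ≫ g), IsMonHom.one_hom g]
  · rw [← cancel_mono g, Category.assoc, Category.assoc, IsMonHom.mul_hom (f ≫ g), IsMonHom.mul_hom g,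
      ← MonoidalCategory.tensorHom_comp_tensorHom, Category.assoc]

variable [IsAlgClosed k]

/-- homomorphisms from connected tori are conjugate into a Borel subgroup -/
theorem exists_into_borel {G B P : Over (Spec (CommRingCat.of k))} [GrpObj G] [GrpObj B] [GrpObj P]
    [IsAffine G.left] [Smooth G.hom] [ConnectedSpace G.left] {iB : B ⟶ G} (hB : Red.IsBorelOver k iB)
    (hP : Red.IsTorus P) [IsAffine P.left] [ConnectedSpace P.left] (f : P ⟶ G) [IsMonHom f] :
    ∃ (g : 𝟙_ (Over (Spec (CommRingCat.of k))) ⟶ G) (h : P ⟶ B), IsMonHom h ∧ h ≫ iB = f ≫ cj g := by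
  haveI : QuasiCompact G.hom := (quasiCompact_iff_compactSpace G.hom).2 inferInstance
  obtain ⟨hi, hcl, hsm, -⟩ := id hB
  haveI := hi; haveI := hcl; haveI := hsm
  haveI : QuasiCompact B.hom := by rw [← Over.w iB]; infer_instance
  haveI : Mono iB := Over.mono_of_mono_left _
  haveI : Smooth P.hom := AlgGrpLib.AxesTorus.smooth_of_isTorus hP
  haveI : Group.IsSolvable (𝟙_ (Over (Spec (CommRingCat.of k))) ⟶ P) :=
    isSolvable_of_comm fun x y => SGA3cLib.torus_mul_comm hP x y
  obtain ⟨X, a, o, -, hLX, -, hfl, hs, hpb⟩ := AlgGrpLib.HomogQuotProj.exists_quotient_projMono G B iB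
  have hX : AGF.IsQuotient iB X a o := ⟨hLX, hfl, hs, hpb⟩
  obtain ⟨g, h, hh⟩ := HMTor29.MaxTorus.exists_factor f hX (isProper_of_isBorelOver hB hX)
  exact ⟨g, h, isMonHom_of_comp_mono h iB (by rw [hh]; infer_instance), hh⟩

theorem isAffine_and_connected_of_isTorus {P : Over (Spec (CommRingCat.of k))} [GrpObj P] (hP : Red.IsTorus P) :
    IsAffine P.left ∧ ConnectedSpace P.left := by
  obtain ⟨N, _, rP, εN, eP, heP, -⟩ := HMTor29.MaxTorus.isFreeDiag_of_isTorus P hP
  haveI := heP
  haveI : IsIso eP.left := inferInstanceAs (IsIso ((Over.forget _).map eP))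
  haveI : IsDomain (MonoidAlgebra k (Multiplicative (Fin rP → ℤ))) := NoZeroDivisors.to_isDomain _
  haveI : IsDomain (MonoidAlgebra k N) := (MonoidAlgebra.mapDomainRingEquiv k εN).toMulEquiv.isDomain _
  haveI : IsAffine (HopfQuot.spec (k := k) (MonoidAlgebra k N)).left :=
    inferInstanceAs (IsAffine (Spec (CommRingCat.of (MonoidAlgebra k N))))
  haveI : ConnectedSpace (HopfQuot.spec (k := k) (MonoidAlgebra k N)).left :=
    inferInstanceAs (ConnectedSpace (PrimeSpectrum (MonoidAlgebra k N)))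
  exact ⟨IsAffine.of_isIso (inv eP.left), eP.left.homeomorph.surjective.connectedSpace eP.left.continuous⟩

theorem isTorus_of_iso {P P' : Over (Spec (CommRingCat.of k))} [GrpObj P] [GrpObj P'] (hP : Red.IsTorus P)
    (φ : P' ≅ P) [IsMonHom φ.hom] : Red.IsTorus P' := by
  obtain ⟨S', f, h1, h2, h3, h4⟩ := hP
  refine ⟨S', f, h1, h2, h3, fun s' => ?_⟩
  obtain ⟨U, hU, r, ⟨E⟩⟩ := h4 s'
  let F := Over.pullback (U.ι ≫ f)
  let b : Red.bc (U.ι ≫ f) P' ≅ Red.bc (U.ι ≫ f) P := F.mapIso φ
  haveI : IsMonHom b.hom := by show IsMonHom (F.map φ.hom); infer_instance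
  exact ⟨U, hU, r, ⟨Grp.mkIso' b ≪≫ E⟩⟩

theorem isMaxTorus_image {G Q T T' : Over (Spec (CommRingCat.of k))} [GrpObj G] [GrpObj Q] [GrpObj T] [GrpObj T']
    [IsAffine G.left] [Smooth G.hom] [ConnectedSpace G.left] [IsAffine Q.left] [Smooth Q.hom] [ConnectedSpace Q.left]
    (q : G ⟶ Q) [IsMonHom q] [Surjective q.left] {iT : T ⟶ G} (hT : AGF.IsMaxTorus iT)
    (iT' : T' ⟶ Q) [IsMonHom iT'] [IsClosedImmersion iT'.left] [IsReduced T'.left]
    (p : T ⟶ T') [Surjective p.left] (hp : p ≫ iT' = iT ≫ q) : AGF.IsMaxTorus iT' := by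
  haveI : QuasiCompact G.hom := (quasiCompact_iff_compactSpace G.hom).2 inferInstance
  haveI : QuasiCompact Q.hom := (quasiCompact_iff_compactSpace Q.hom).2 inferInstance
  obtain ⟨hi, hmono, hTt, hmax⟩ := id hT
  haveI := hi; haveI := hmono
  obtain ⟨hTaff, hTconn⟩ := isAffine_and_connected_of_isTorus hTt
  haveI := hTaff; haveI := hTconn
  haveI : Smooth T.hom := AlgGrpLib.AxesTorus.smooth_of_isTorus hTt
  haveI : QuasiCompact T.hom := (quasiCompact_iff_compactSpace T.hom).2 inferInstance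
  haveI : Mono iT' := Over.mono_of_mono_left _
  haveI : IsMonHom p := isMonHom_of_comp_mono p iT' (by rw [hp]; infer_instance)
  haveI : Smooth T'.hom := BorelImg10.smooth_of_surjective (iT ≫ q) iT' p hp
  haveI : QuasiCompact T'.hom := by rw [← Over.w iT']; infer_instance
  haveI : IsAffine T'.left := isAffine_of_isAffineHom iT'.left
  haveI : ConnectedSpace T'.left := p.left.surjective.connectedSpace p.left.continuous
  -- a Borel subgroup containing `T`
  obtain ⟨B₀, _, iB₀, hB₀⟩ := exists_isBorelOver k G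
  obtain ⟨g₀, t₀, ht₀m, ht₀⟩ := exists_into_borel hB₀ hTt iT
  let iH : B₀ ⟶ G := iB₀ ≫ cj g₀⁻¹
  have hH : Red.IsBorelOver k iH := isBorelOver_comp_cj hB₀ g₀⁻¹
  have ht : t₀ ≫ iH = iT := by
    show t₀ ≫ iB₀ ≫ cj g₀⁻¹ = iT
    rw [reassoc_of% ht₀, cj_cancel', Category.comp_id]
  obtain ⟨hHi, hHcl, hHsm, hHconn, hHsolv, -⟩ := id hH
  haveI := hHi; haveI := hHcl; haveI := hHsm; haveI := hHconn; haveI := ht₀m
  haveI : IsAffine B₀.left := isAffine_of_isAffineHom iH.left
  haveI : QuasiCompact B₀.hom := (quasiCompact_iff_compactSpace B₀.hom).2 inferInstance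
  haveI : Mono iH := Over.mono_of_mono_left _
  -- its image in `Q`
  obtain ⟨M, _, iM, pH, hiM, hpHm, hclM, hpM, hpHs, -, hsmM, -, -⟩ := AlgGrpLib.ImageSubgroup.exists_image (iH ≫ q)
  haveI := hiM; haveI := hpHm; haveI := hclM; haveI := hpHs; haveI := hsmM
  have hM : Red.IsBorelOver k iM := BorelImg10.isBorelOver_image q hH iM pH hpM
  obtain ⟨-, -, -, hMconn, hMsolv, -⟩ := id hM
  haveI := hMconn
  haveI : IsAffine M.left := isAffine_of_isAffineHom iM.left
  haveI : Mono iM := Over.mono_of_mono_left _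
  obtain ⟨S, _, s, π, hS, hsm', hπm, hsπ, hrig, huniv⟩ := exists_complement (H := B₀) hHsolv
  obtain ⟨S', _, s', π', hS', hs'm, hπ'm, hsπ', hrig', huniv'⟩ := exists_complement (H := M) hMsolv
  haveI := hsm'; haveI := hπm; haveI := hs'm; haveI := hπ'm
  haveI : Mono s := (SplitMono.mk π hsπ).mono
  obtain ⟨hS'aff, hS'conn⟩ := isAffine_and_connected_of_isTorus hS'
  haveI := hS'aff; haveI := hS'conn
  haveI : Smooth S'.hom := AlgGrpLib.AxesTorus.smooth_of_isTorus hS'
  haveI : QuasiCompact S'.hom := (quasiCompact_iff_compactSpace S'.hom).2 inferInstance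
  haveI : IsReduced S'.left := AbSchLib.isReduced_of_smooth S'.hom
  -- the maximal torus maps isomorphically onto the torus quotient
  haveI : IsIso (t₀ ≫ π) := by
    obtain ⟨v, hv⟩ := huniv T hTt t₀
    have e : t₀ = (t₀ ≫ π ≫ s) ≫ cj v⁻¹ := by
      rw [comp_cj]
      simpa [cst, GrpObj.comp_inv] using hv
    haveI : Mono ((s ≫ cj v⁻¹) ≫ iH) := mono_comp _ _
    refine hmax S ((s ≫ cj v⁻¹) ≫ iH) (t₀ ≫ π) hS ?_
    conv_rhs => rw [← ht, e]
    simp only [Category.assoc]
  have hsur : ∀ {X Y : Over (Spec (CommRingCat.of k))} (f : X ⟶ Y) (g : Y ⟶ X), g ≫ f = 𝟙 Y → Surjective f.left :=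
    fun f g hgf => by
      haveI : Surjective (g.left ≫ f.left) := by rw [← Over.comp_left, hgf]; exact inferInstanceAs (Surjective (𝟙 _))
      exact Surjective.of_comp g.left f.left
  haveI : Surjective π'.left := hsur π' s' hsπ'
  haveI : Surjective (π ≫ s ≫ pH ≫ π').left := by
    rw [hrig S' hS' (pH ≫ π'), Over.comp_left]
    infer_instance
  haveI : Surjective (s ≫ pH ≫ π').left := by
    haveI : Surjective (π.left ≫ (s ≫ pH ≫ π').left) := by rw [← Over.comp_left]; infer_instance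
    exact Surjective.of_comp π.left _
  haveI : Surjective (t₀ ≫ pH ≫ π').left := by
    haveI : IsIso (t₀ ≫ π).left := inferInstanceAs (IsIso ((Over.forget _).map (t₀ ≫ π)))
    rw [← hrig S' hS' (pH ≫ π'), ← Category.assoc, Over.comp_left]
    infer_instance
  -- `T'` lies in the image Borel
  haveI : IsReduced T.left := AbSchLib.isReduced_of_smooth T.hom
  have hsub : Set.range iT'.left ⊆ Set.range iM.left := by
    have e : p.left ≫ iT'.left = t₀.left ≫ pH.left ≫ iM.left := by
      rw [← Over.comp_left, ← Over.comp_left, ← Over.comp_left, hp, hpM, reassoc_of% ht]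
    rintro _ ⟨x, rfl⟩
    obtain ⟨y, rfl⟩ := p.left.surjective x
    exact ⟨pH.left (t₀.left y), (congrArg (fun f : T.left ⟶ Q.left => f y) e).symm⟩
  obtain ⟨l, hl⟩ := RedSepLib.exists_lift_of_range_subset iT'.left iM.left hsub
  let t' : T' ⟶ M := Over.homMk l (by rw [← Over.w iM, ← Category.assoc, hl, Over.w])
  have ht' : t' ≫ iM = iT' := Over.OverMorphism.ext hl
  haveI : IsMonHom t' := isMonHom_of_comp_mono t' iM (by rw [ht']; infer_instance)
  have hpt : p ≫ t' = t₀ ≫ pH := by
    rw [← cancel_mono iM, Category.assoc, ht', hp, Category.assoc, hpM, reassoc_of% ht]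
  let a : T' ⟶ S' := t' ≫ π'
  haveI : Surjective a.left := by
    haveI : Surjective (p.left ≫ a.left) := by
      rw [← Over.comp_left, ← Category.assoc, hpt, Category.assoc]; infer_instance
    exact Surjective.of_comp p.left _
  have hmonoπ : ∀ {P : Over (Spec (CommRingCat.of k))} [GrpObj P], Red.IsTorus P → ∀ (h : P ⟶ M) [IsMonHom h] [Mono h],
      Mono (h ≫ π') := by
    intro P _ hP h _ _
    obtain ⟨v, hv⟩ := huniv' P hP h
    have e : h = (h ≫ π') ≫ s' ≫ cj v⁻¹ := by
      conv_lhs => rw [hv]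
      rw [← Category.assoc (h ≫ π'), Category.assoc h, comp_cj]
      simp [cst, GrpObj.comp_inv]
    exact mono_of_mono_fac e.symm
  haveI : Mono t' := mono_of_mono_fac ht'
  haveI : IsSeparated M.hom := SGA3xLib.isSeparated_of_grpObj M
  haveI : IsDominant p.left := ⟨p.left.surjective.denseRange⟩
  haveI : Mono a := by
    obtain ⟨v, hv⟩ := huniv' T hTt (t₀ ≫ pH)
    have e : t₀ ≫ pH = p ≫ a ≫ s' ≫ cj v⁻¹ := by
      conv_lhs => rw [hv]
      have e0 : p ≫ a ≫ s' ≫ cj v⁻¹ = ((t₀ ≫ pH) ≫ π' ≫ s') ≫ cj v⁻¹ := by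
        simp only [a, Category.assoc, reassoc_of% hpt]
      rw [e0, comp_cj]
      simp [cst, GrpObj.comp_inv]
    rw [← hpt] at e
    have e' : t' = a ≫ s' ≫ cj v⁻¹ := Over.OverMorphism.ext (ext_of_isDominant_of_isSeparated M.hom
      (by rw [Over.w, Over.w]) p.left (congrArg CommaMorphism.left e))
    exact mono_of_mono_fac e'.symm
  haveI : IsSeparated S'.hom := SGA3xLib.isSeparated_of_grpObj S'
  haveI : IsSeparated T'.hom := SGA3xLib.isSeparated_of_grpObj T'
  haveI : IsIso a.left := by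
    haveI : IsClosedImmersion a.left := SGA3cLib.isClosedImmersion_of_mono_of_isAlgClosed a
    exact isIso_of_isClosedImmersion_of_surjective a.left
  haveI : IsIso a := (isIso_iff_of_reflects_iso a (Over.forget _)).1 ‹_›
  have hT't : Red.IsTorus T' := by
    haveI : IsMonHom (asIso a).hom := by show IsMonHom (t' ≫ π'); infer_instance
    exact isTorus_of_iso hS' (asIso a)
  refine ⟨inferInstance, inferInstance, hT't, fun T'' _ j _ _ f hT'' hfj => ?_⟩
  obtain ⟨hT''aff, hT''conn⟩ := isAffine_and_connected_of_isTorus hT''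
  haveI := hT''aff; haveI := hT''conn
  obtain ⟨g, h, hhm, hh⟩ := exists_into_borel hM hT'' j
  haveI := hhm
  haveI : Mono (j ≫ cj g) := mono_comp _ _
  haveI : Mono h := mono_of_mono_fac hh
  haveI : Mono (h ≫ π') := hmonoπ hT'' h
  haveI : Mono f := mono_of_mono_fac hfj
  let b : T' ⟶ T' := f ≫ (h ≫ π') ≫ inv a
  haveI : Mono b := inferInstance
  haveI : Mono b.left := inferInstanceAs (Mono ((Over.forget _).map b))
  haveI : IsSeparated T'.hom := ‹_›
  haveI : IsLocallyNoetherian (Spec (CommRingCat.of k)) := inferInstance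
  haveI : LocallyOfFinitePresentation T'.hom := inferInstance
  haveI : IsIso b.left := MonoEndo26.isIso_of_mono_endo T'.hom b.left (Over.w b)
  haveI : IsIso b := (isIso_iff_of_reflects_iso b (Over.forget _)).1 ‹_›
  haveI : Mono ((h ≫ π') ≫ inv a) := mono_comp _ _
  haveI : IsSplitEpi ((h ≫ π') ≫ inv a) := IsSplitEpi.mk' ⟨inv b ≫ f, by
    rw [Category.assoc]; exact IsIso.inv_hom_id b⟩
  haveI : IsIso ((h ≫ π') ≫ inv a) := isIso_of_mono_of_isSplitEpi _
  exact IsIso.of_isIso_comp_right f ((h ≫ π') ≫ inv a)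

end Groth.Agent.MaxTorImg10
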