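import Groth.Agent.MaxTorImg10.Main
import Groth.Agent.AGFQuot23.NeutralSub
import Groth.Prelude.Def_AGF

/-! # Tori of a connected nilpotent group are central -/

set_option autoImplicit false
set_option linter.style.haveILetI false
set_option backward.isDefEq.respectTransparency false

noncomputable section

universe u

open CategoryTheory CategoryTheory.Limits MonoidalCategory CartesianMonoidalCategory MonObj GrpObj AlgebraicGeometry

namespace Groth.Agent.MaxTorImg10

open AGFQuot23

variable {k : Type u} [Field k] [IsAlgClosed k]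

/-- Morphisms from a reduced variety to a separated group are determined by rational points. -/
theorem eq_of_points {X G : Over (Spec (CommRingCat.of k))} [GrpObj G] [LocallyOfFiniteType X.hom] [IsReduced X.left]
    [IsSeparated G.hom] [LocallyOfFiniteType G.hom] (f g : X ⟶ G) (h : ∀ x : 𝟙_ (Over (Spec (CommRingCat.of k))) ⟶ X, x ≫ f = x ≫ g) :
    f = g := by
  haveI := AlgGrpLib.PointsDense.locallyOfFiniteType_tensor k G G
  let D : G ⟶ G ⊗ G := lift (𝟙 G) (𝟙 G)
  haveI : IsClosedImmersion D.left := by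
    have : D.left = pullback.diagonal G.hom := rfl
    rw [this]
    infer_instance
  obtain ⟨l, hl⟩ := exists_lift_of_points (lift f g) D fun x => by
    refine ⟨AlgGrpLib.ptOf (x ≫ f), ?_⟩
    show AlgGrpLib.ptOf ((x ≫ f) ≫ D) = _
    congr 1
    simp only [D, comp_lift, Category.comp_id]
    rw [h x]
  have h1 := congrArg (· ≫ fst G G) hl
  have h2 := congrArg (· ≫ snd G G) hl
  simp [D] at h1 h2
  exact h1.symm.trans h2

theorem torus_central_of_nilpotent {G : Over (Spec (CommRingCat.of k))} [GrpObj G] [IsAffine G.left] [Smooth G.hom]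
    [ConnectedSpace G.left] (hnil : AGF.IsNilpotentGrp G) {T : Over (Spec (CommRingCat.of k))} [GrpObj T]
    (hT : Red.IsTorus T) (iT : T ⟶ G) [IsMonHom iT] {X : Over (Spec (CommRingCat.of k))} (g : X ⟶ G) (x : X ⟶ T) :
    g * (x ≫ iT) = (x ≫ iT) * g := by
  haveI : QuasiCompact G.hom := (quasiCompact_iff_compactSpace G.hom).2 inferInstance
  haveI : IsSeparated G.hom := SGA3xLib.isSeparated_of_grpObj G
  obtain ⟨n, hn⟩ := hnil
  have hsolv : Red.IsSolvableGrp G := by
    haveI : Group.IsNilpotent (𝟙_ (Over (Spec (CommRingCat.of k))) ⟶ G) := ⟨⟨n, hn _⟩⟩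
    exact isSolvableGrp_of_points G
  obtain ⟨S, _, s, π, hS, hsm, hπm, hsπ, hrig, huniv⟩ := exists_complement hsolv
  haveI := hsm; haveI := hπm
  obtain ⟨hSaff, hSconn⟩ := isAffine_and_connected_of_isTorus hS
  haveI := hSaff; haveI := hSconn
  haveI : Smooth S.hom := AlgGrpLib.AxesTorus.smooth_of_isTorus hS
  haveI : QuasiCompact S.hom := (quasiCompact_iff_compactSpace S.hom).2 inferInstance
  have key : ∀ (i : ℕ) (u : 𝟙_ (Over (Spec (CommRingCat.of k))) ⟶ G),
      u ∈ Subgroup.upperCentralSeries (𝟙_ (Over (Spec (CommRingCat.of k))) ⟶ G) i →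
      ∀ z : 𝟙_ (Over (Spec (CommRingCat.of k))) ⟶ S, (z ≫ s) * u = u * (z ≫ s) := by
    intro i
    induction i with
    | zero =>
      intro u hu z
      rw [Subgroup.upperCentralSeries_zero, Subgroup.mem_bot] at hu
      rw [hu, _root_.mul_one, _root_.one_mul]
    | succ i ih =>
      intro u hu z
      rw [Subgroup.mem_upperCentralSeries_succ_iff] at hu
      let U : S ⟶ G := toUnit S ≫ u
      let c : S ⟶ G := s * U * s⁻¹ * U⁻¹
      have hc : ∀ y : 𝟙_ (Over (Spec (CommRingCat.of k))) ⟶ S,
          y ≫ c = (y ≫ s) * u * (y ≫ s)⁻¹ * u⁻¹ := fun y => by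
        simp only [c, U, MonObj.comp_mul, GrpObj.comp_inv, ← Category.assoc]
        rw [toUnit_unique (y ≫ toUnit S) (𝟙 _), Category.id_comp]
      have hmem : ∀ y : 𝟙_ (Over (Spec (CommRingCat.of k))) ⟶ S,
          y ≫ c ∈ Subgroup.upperCentralSeries (𝟙_ (Over (Spec (CommRingCat.of k))) ⟶ G) i := fun y => by
        have h := hu (y ≫ s)
        rw [hc]
        have h' := (Subgroup.upperCentralSeries (𝟙_ (Over (Spec (CommRingCat.of k))) ⟶ G) i).inv_mem h
        simp only [commutatorElement_def] at h'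
        rw [show (u * (y ≫ s) * u⁻¹ * (y ≫ s)⁻¹)⁻¹ = (y ≫ s) * u * (y ≫ s)⁻¹ * u⁻¹ by group] at h'
        exact h'
      haveI : IsReduced S.left := AbSchLib.isReduced_of_smooth S.hom
      haveI : IsMonHom c := by
        constructor
        · have h1 : (η[S] : 𝟙_ (Over (Spec (CommRingCat.of k))) ⟶ S) ≫ s = η[G] := IsMonHom.one_hom s
          rw [hc, h1, MonObj.one_eq_one]
          group
        · haveI : Smooth (S ⊗ S).hom := by
            show Smooth (pullback.fst S.hom S.hom ≫ S.hom)
            haveI : Smooth (pullback.fst S.hom S.hom) := MorphismProperty.pullback_fst (P := @Smooth) _ _ inferInstance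
            infer_instance
          haveI : IsReduced (S ⊗ S).left := AbSchLib.isReduced_of_smooth (S ⊗ S).hom
          refine eq_of_points _ _ fun w => ?_
          have hμ : μ[S] = fst S S * snd S S := by rw [Hom.mul_def, lift_fst_snd, Category.id_comp]
          have hr : (c ⊗ₘ c) ≫ μ[G] = (fst S S ≫ c) * (snd S S ≫ c) := by
            rw [show μ[G] = fst G G * snd G G by rw [Hom.mul_def, lift_fst_snd, Category.id_comp], MonObj.comp_mul,
              tensorHom_fst, tensorHom_snd]
          rw [hr, hμ, ← Category.assoc w (fst S S * snd S S) c, MonObj.comp_mul w, hc, MonObj.comp_mul,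
            ← Category.assoc, ← Category.assoc, hc, hc, MonObj.mul_comp]
          have hcomm := ih _ (hmem (w ≫ fst S S)) (w ≫ snd S S)
          rw [hc] at hcomm
          have hab : (w ≫ fst S S) ≫ s * (w ≫ snd S S) ≫ s = (w ≫ snd S S) ≫ s * (w ≫ fst S S) ≫ s := by
            rw [← MonObj.mul_comp, ← MonObj.mul_comp, SGA3cLib.torus_mul_comm hS]
          rw [hab]
          generalize (w ≫ fst S S) ≫ s = a at hcomm ⊢
          generalize (w ≫ snd S S) ≫ s = b at hcomm ⊢
          calc b * a * u * (b * a)⁻¹ * u⁻¹ = b * (a * u * a⁻¹ * u⁻¹) * (u * b⁻¹ * u⁻¹) := by group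
            _ = (a * u * a⁻¹ * u⁻¹) * b * (u * b⁻¹ * u⁻¹) := by rw [hcomm]
            _ = (a * u * a⁻¹ * u⁻¹) * (b * u * b⁻¹ * u⁻¹) := by group
      obtain ⟨v, hv⟩ := huniv S hS c
      have hcπ : c ≫ π = 1 := by
        simp only [c, MonObj.mul_comp, GrpObj.inv_comp]
        rw [SGA3cLib.torus_mul_comm hS (s ≫ π)]
        group
      have h1 : c = 1 := by
        rw [hv, ← Category.assoc c π s, hcπ, MonObj.one_comp]
        group
      have h2 := hc z
      rw [h1, MonObj.comp_one] at h2
      calc (z ≫ s) * u = ((z ≫ s) * u * (z ≫ s)⁻¹ * u⁻¹) * (u * (z ≫ s)) := by group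
        _ = u * (z ≫ s) := by rw [← h2, _root_.one_mul]
  have hcen : fst S G ≫ s * snd S G = snd S G * fst S G ≫ s := by
    haveI : Smooth (S ⊗ G).hom := by
      show Smooth (pullback.fst S.hom G.hom ≫ S.hom)
      haveI : Smooth (pullback.fst S.hom G.hom) := MorphismProperty.pullback_fst (P := @Smooth) _ _ inferInstance
      infer_instance
    haveI : IsReduced (S ⊗ G).left := AbSchLib.isReduced_of_smooth (S ⊗ G).hom
    refine eq_of_points _ _ fun w => ?_
    rw [MonObj.comp_mul, MonObj.comp_mul, ← Category.assoc]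
    exact key n _ (by rw [hn]; trivial) _
  have hcen' : ∀ {W : Over (Spec (CommRingCat.of k))} (a : W ⟶ S) (b : W ⟶ G), (a ≫ s) * b = b * (a ≫ s) :=
    fun a b => by
      have h := congrArg (fun f => lift a b ≫ f) hcen
      simpa [MonObj.comp_mul] using h
  obtain ⟨v, hv⟩ := huniv T hT iT
  have he : iT = (iT ≫ π) ≫ s := by
    conv_lhs => rw [hv]
    rw [← Category.assoc iT π s, ← hcen']
    group
  rw [he, ← Category.assoc]
  exact (hcen' _ g).symm

end Groth.Agent.MaxTorImg10
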