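import Groth.Agent.MaxTorImg10.Main
import Groth.Agent.MaxTorImg10.Nilpotent
import Groth.Agent.AGFQuot23.UnipRadical
import Groth.Agent.HopfQuot.SchemeQuot
import Groth.Agent.S11200
import Groth.Agent.AGF12.QuotQA
import Groth.Agent.CentConn12.Affine

/-! # Groups with a central maximal torus are nilpotent -/

set_option autoImplicit false
set_option linter.style.haveILetI false
set_option backward.isDefEq.respectTransparency false

noncomputable section

universe u

open CategoryTheory CategoryTheory.Limits MonoidalCategory CartesianMonoidalCategory MonObj GrpObj AlgebraicGeometry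

namespace Groth.Agent.MaxTorImg10

open AGFQuot23 MaxTorConj10

variable {k : Type u} [Field k] [IsAlgClosed k]

/-- If a Borel subgroup has no characters, it contains every rational point. -/
theorem exists_lift_of_noChar {G B : Over (Spec (CommRingCat.of k))} [GrpObj G] [GrpObj B] [IsAffine G.left]
    [Smooth G.hom] [ConnectedSpace G.left] {iB : B ⟶ G} (hB : Red.IsBorelOver k iB)
    (hχ : ∀ χ : B ⟶ Red.Gm (Spec (CommRingCat.of k)), IsMonHom χ → χ = 1)
    (g : 𝟙_ (Over (Spec (CommRingCat.of k))) ⟶ G) :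
    ∃ b : 𝟙_ (Over (Spec (CommRingCat.of k))) ⟶ B, b ≫ iB = g := by
  haveI : QuasiCompact G.hom := (quasiCompact_iff_compactSpace G.hom).2 inferInstance
  obtain ⟨hi, hcl, hsm, hconn, -⟩ := id hB
  haveI := hi; haveI := hcl; haveI := hsm
  haveI : QuasiCompact B.hom := by rw [← Over.w iB]; infer_instance
  haveI : Mono iB := Over.mono_of_mono_left _
  obtain ⟨X, a, o, -, hLX, -, hfl, hs, hpb⟩ := AlgGrpLib.HomogQuotProj.exists_quotient_projMono G B iB
  have hX : AGF.IsQuotient iB X a o := ⟨hLX, hfl, hs, hpb⟩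
  haveI := isProper_of_isBorelOver hB hX
  haveI := hfl; haveI := hs
  haveI : IsReduced G.left := AbSchLib.isReduced_of_smooth G.hom
  haveI : IsReduced X.left := AlgSpLib.isReduced_of_flat_surjective (a.orbitMap o).left
  haveI : ConnectedSpace X.left :=
    (a.orbitMap o).left.surjective.connectedSpace (a.orbitMap o).left.continuous
  haveI : X.left.IsQuasiAffine :=
    AGF12.Quot.isQuasiAffine_of_observable hX (Groth.Agent.S11200.result k G B iB hχ)
  let Y : Over (Spec (CommRingCat.of k)) :=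
    Over.mk (Spec.map X.hom.appTop ≫ (asIso (Spec (CommRingCat.of k)).toSpecΓ).inv)
  let f : X ⟶ Y := Over.homMk X.left.toSpecΓ (by
    show X.left.toSpecΓ ≫ Spec.map X.hom.appTop ≫ _ = X.hom
    rw [← Category.assoc, ← Scheme.toSpecΓ_naturality, Category.assoc, asIso_inv, IsIso.hom_inv_id, Category.comp_id])
  haveI : IsAffine Y.left := inferInstanceAs (IsAffine (Spec _))
  haveI : Mono f := by
    haveI : Mono f.left := inferInstanceAs (Mono X.left.toSpecΓ)
    exact Over.mono_of_mono_left _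
  have e : ∀ z : 𝟙_ (Over (Spec (CommRingCat.of k))) ⟶ X, z = o := fun z => by
    rw [← cancel_mono f, eq_toUnit_comp_of_isProper f o, ← Category.assoc z, toUnit_unique (z ≫ toUnit X) (𝟙 _),
      Category.id_comp, ← Category.assoc o (toUnit X), toUnit_unique (o ≫ toUnit X) (𝟙 _), Category.id_comp]
  obtain ⟨t, ht₁, ht₂⟩ := hpb.exists_lift (1 : 𝟙_ (Over (Spec (CommRingCat.of k))) ⟶ G) g
    ((e _).trans (e _).symm)
  refine ⟨t ≫ snd G B, ?_⟩
  rw [RedQuotLib.act_eq, ht₁, _root_.one_mul] at ht₂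
  exact ht₂

variable {G T : Over (Spec (CommRingCat.of k))} [GrpObj G] [GrpObj T] [IsAffine G.left] [Smooth G.hom]
  [ConnectedSpace G.left]

/-- the torus quotient of a connected solvable group containing a maximal torus restricts to an isomorphism on it -/
theorem isIso_comp_proj {B S : Over (Spec (CommRingCat.of k))} [GrpObj B] [GrpObj S] {iT : T ⟶ B}
    (hT : AGF.IsMaxTorus iT) (s : S ⟶ B) [IsMonHom s] (π : B ⟶ S) (hsπ : s ≫ π = 𝟙 S) (hS : Red.IsTorus S)
    {v : 𝟙_ (Over (Spec (CommRingCat.of k))) ⟶ B}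
    (hv : iT = (toUnit T ≫ v) * (iT ≫ π ≫ s) * (toUnit T ≫ v)⁻¹) : IsIso (iT ≫ π) := by
  obtain ⟨hi, hm, hTt, hmax⟩ := hT
  haveI := hi
  haveI : Mono s := (SplitMono.mk π hsπ).mono
  have e : iT = (iT ≫ π ≫ s) ≫ cj v⁻¹ := by
    rw [comp_cj]
    simpa [cst, GrpObj.comp_inv] using hv
  haveI : Mono (s ≫ cj v⁻¹) := mono_comp _ _
  refine hmax S (s ≫ cj v⁻¹) (iT ≫ π) hS ?_
  conv_rhs => rw [e]
  simp only [Category.assoc]

/-- A homomorphism from a connected solvable group to a torus which kills a maximal torus is trivial. -/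
theorem eq_one_of_kills_maxTorus (hs : Red.IsSolvableGrp G) {iT : T ⟶ G} (hT : AGF.IsMaxTorus iT)
    {P : Over (Spec (CommRingCat.of k))} [GrpObj P] (hP : Red.IsTorus P) (f : G ⟶ P) [IsMonHom f]
    (hf : iT ≫ f = 1) : f = 1 := by
  obtain ⟨hi, hm, hTt, -⟩ := id hT
  haveI := hi
  obtain ⟨S, _, s, π, hS, hsm, hπm, hsπ, hrig, huniv⟩ := exists_complement hs
  haveI := hsm; haveI := hπm
  obtain ⟨v, hv⟩ := huniv T hTt iT
  haveI := isIso_comp_proj hT s π hsπ hS hv
  have h1 : (iT ≫ π) ≫ s ≫ f = 1 := by rw [Category.assoc, hrig P hP f, hf]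
  have h2 : s ≫ f = 1 := by rw [← cancel_epi (iT ≫ π), h1, MonObj.comp_one]
  rw [← hrig P hP f, h2, MonObj.comp_one]

variable {iT : T ⟶ G}
  (hc : ∀ (g : 𝟙_ (Over (Spec (CommRingCat.of k))) ⟶ G) (t : 𝟙_ (Over (Spec (CommRingCat.of k))) ⟶ T),
    g * (t ≫ iT) = (t ≫ iT) * g)
include hc

theorem isNormalHom_of_central [IsMonHom iT] (hTt : Red.IsTorus T) : AlgGrp.IsNormalHom iT := by
  intro X g t
  refine ⟨t, ?_⟩
  obtain ⟨_, _⟩ := isAffine_and_connected_of_isTorus hTt
  haveI : Smooth T.hom := AlgGrpLib.AxesTorus.smooth_of_isTorus hTt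
  haveI : IsSeparated G.hom := SGA3xLib.isSeparated_of_grpObj G
  haveI : Smooth (G ⊗ T).hom := by
    show Smooth (pullback.fst G.hom T.hom ≫ G.hom)
    haveI : Smooth (pullback.fst G.hom T.hom) := MorphismProperty.pullback_fst (P := @Smooth) _ _ inferInstance
    infer_instance
  haveI : IsReduced (G ⊗ T).left := AbSchLib.isReduced_of_smooth (G ⊗ T).hom
  have h := eq_of_points (fst G T * (snd G T ≫ iT)) ((snd G T ≫ iT) * fst G T) fun w => by
    simp only [MonObj.comp_mul, ← Category.assoc]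
    exact hc _ _
  have h2 := congrArg (lift g t ≫ ·) h
  simp only [MonObj.comp_mul, ← Category.assoc, lift_fst, lift_snd] at h2
  rw [h2, mul_inv_cancel_right]

/-- A connected group with a central maximal torus is solvable: it is its own Borel subgroup. -/
theorem isSolvableGrp_of_central (hT : AGF.IsMaxTorus iT) : Red.IsSolvableGrp G := by
  haveI : QuasiCompact G.hom := (quasiCompact_iff_compactSpace G.hom).2 inferInstance
  obtain ⟨hi, hm, hTt, -⟩ := id hT
  haveI := hi; haveI := hm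
  obtain ⟨_, _⟩ := isAffine_and_connected_of_isTorus hTt
  haveI : Smooth T.hom := AlgGrpLib.AxesTorus.smooth_of_isTorus hTt
  haveI : QuasiCompact T.hom := (quasiCompact_iff_compactSpace T.hom).2 inferInstance
  haveI : IsClosedImmersion iT.left := SGA3cLib.isClosedImmersion_of_mono iT
  have hN := isNormalHom_of_central hc hTt
  haveI : Group.IsSolvable (𝟙_ (Over (Spec (CommRingCat.of k))) ⟶ T) :=
    isSolvable_of_comm fun x y => SGA3cLib.torus_mul_comm hTt x y
  obtain ⟨B, _, iB, hB⟩ := exists_isBorelOver k G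
  obtain ⟨hBi, hBcl, hBsm, hBconn, hBsolv, -⟩ := id hB
  haveI := hBi; haveI := hBcl; haveI := hBsm; haveI := hBconn
  haveI : IsAffine B.left := isAffine_of_isAffineHom iB.left
  haveI : Mono iB := Over.mono_of_mono_left _
  obtain ⟨t, ht⟩ := exists_factor_of_normal iT hN (isSolvableGrp_of_points T) hB
  obtain ⟨Q, _, q, hq, hQaff, hQlft, hqfl, hqs, hker⟩ := HopfQuot.exists_affine_quotient G T iT hN
  haveI := hq; haveI := hQaff; haveI := hQlft; haveI := hqfl; haveI := hqs
  haveI : QuasiCompact Q.hom := (quasiCompact_iff_compactSpace Q.hom).2 inferInstance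
  haveI : IsReduced G.left := AbSchLib.isReduced_of_smooth G.hom
  haveI : IsReduced Q.left := AlgSpLib.isReduced_of_flat_surjective q.left
  haveI : IsClosedImmersion (Over.Hom.left (𝟙 Q)) := inferInstanceAs (IsClosedImmersion (𝟙 Q.left))
  haveI : Smooth Q.hom := BorelImg10.smooth_of_surjective q (𝟙 Q) q (Category.comp_id q)
  haveI : ConnectedSpace Q.left := q.left.surjective.connectedSpace q.left.continuous
  obtain ⟨M, _, iM, p, hiM, hp, hclM, hpM, hsp, hfp, hsmM, hLM, hqM⟩ := AlgGrpLib.ImageSubgroup.exists_image (iB ≫ q)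
  haveI := hiM; haveI := hp; haveI := hclM; haveI := hsp; haveI := hsmM; haveI := hLM
  have hM : Red.IsBorelOver k iM := BorelImg10.isBorelOver_image q hB iM p hpM
  haveI : Mono iM := Over.mono_of_mono_left _
  haveI : IsReduced M.left := AbSchLib.isReduced_of_smooth M.hom
  have hTM : t ≫ p = 1 := by
    rw [← cancel_mono iM, Category.assoc, hpM, ← Category.assoc, ht, MonObj.one_comp]
    rw [AlgGrpLib.kernel_comp hker]
  have hχ : ∀ χ : M ⟶ Red.Gm (Spec (CommRingCat.of k)), IsMonHom χ → χ = 1 := fun χ hχ => by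
    haveI := hχ
    haveI := hfp
    haveI : Epi p.left := Flat.epi_of_flat_of_surjective p.left
    haveI : Epi p := (Over.forget _).epi_of_epi_map (f := p) ‹_›
    rw [← cancel_epi p, MonObj.comp_one]
    refine eq_one_of_kills_maxTorus hBsolv (isMaxTorus_of_factor hT iB ht) HMTor29.MaxTorus.isTorus_Gm (p ≫ χ) ?_
    rw [← Category.assoc, hTM, MonObj.one_comp]
  have hall : ∀ g : 𝟙_ (Over (Spec (CommRingCat.of k))) ⟶ G, ∃ b : 𝟙_ (Over (Spec (CommRingCat.of k))) ⟶ B, b ≫ iB = g := by
    intro g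
    obtain ⟨m, hm⟩ := exists_lift_of_noChar hM hχ (g ≫ q)
    obtain ⟨b, hb⟩ := exists_ratPoint_lift p m
    have h : (g * (b ≫ iB)⁻¹) ≫ q = 1 := by
      rw [MonObj.mul_comp, GrpObj.inv_comp, Category.assoc, ← hpM, ← Category.assoc b, hb, hm, mul_inv_cancel]
    obtain ⟨z, hz⟩ := AlgGrpLib.exists_lift_kernel hker h
    exact ⟨(z ≫ t) * b, by rw [MonObj.mul_comp, Category.assoc, ht, hz, inv_mul_cancel_right]⟩
  haveI : Group.IsSolvable (𝟙_ (Over (Spec (CommRingCat.of k))) ⟶ B) := by
    obtain ⟨n, hn⟩ := hBsolv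
    exact ⟨⟨n, hn _⟩⟩
  haveI : Group.IsSolvable (𝟙_ (Over (Spec (CommRingCat.of k))) ⟶ G) :=
    solvable_of_surjective (f := MonoidHom.mk' (fun b => b ≫ iB) fun b b' => MonObj.mul_comp b b' iB) hall
  exact isSolvableGrp_of_points G

theorem isNilpotentGrp_of_central (hT : AGF.IsMaxTorus iT) : AGF.IsNilpotentGrp G := by
  haveI : QuasiCompact G.hom := (quasiCompact_iff_compactSpace G.hom).2 inferInstance
  obtain ⟨hi, hm, hTt, -⟩ := id hT
  haveI := hi; haveI := hm
  obtain ⟨_, _⟩ := isAffine_and_connected_of_isTorus hTt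
  haveI : Smooth T.hom := AlgGrpLib.AxesTorus.smooth_of_isTorus hTt
  haveI : QuasiCompact T.hom := (quasiCompact_iff_compactSpace T.hom).2 inferInstance
  haveI : IsClosedImmersion iT.left := SGA3cLib.isClosedImmersion_of_mono iT
  have hN := isNormalHom_of_central hc hTt
  have hsolv := isSolvableGrp_of_central hc hT
  obtain ⟨Q, _, q, hq, hQaff, hQlft, hqfl, hqs, hker⟩ := HopfQuot.exists_affine_quotient G T iT hN
  haveI := hq; haveI := hQaff; haveI := hQlft; haveI := hqfl; haveI := hqs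
  haveI : QuasiCompact Q.hom := (quasiCompact_iff_compactSpace Q.hom).2 inferInstance
  haveI : IsReduced G.left := AbSchLib.isReduced_of_smooth G.hom
  haveI : IsReduced Q.left := AlgSpLib.isReduced_of_flat_surjective q.left
  haveI : IsClosedImmersion (Over.Hom.left (𝟙 Q)) := inferInstanceAs (IsClosedImmersion (𝟙 Q.left))
  haveI : Smooth Q.hom := BorelImg10.smooth_of_surjective q (𝟙 Q) q (Category.comp_id q)
  haveI : ConnectedSpace Q.left := q.left.surjective.connectedSpace q.left.continuous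
  haveI : IsReduced Q.left := AbSchLib.isReduced_of_smooth Q.hom
  have hsQ : Red.IsSolvableGrp Q := by
    haveI : Group.IsSolvable (𝟙_ (Over (Spec (CommRingCat.of k))) ⟶ G) := by
      obtain ⟨n, hn⟩ := hsolv
      exact ⟨⟨n, hn _⟩⟩
    haveI : Group.IsSolvable (𝟙_ (Over (Spec (CommRingCat.of k))) ⟶ Q) :=
      solvable_of_surjective (f := MonoidHom.mk' (fun b => b ≫ q) fun b b' => MonObj.mul_comp b b' q)
        fun m => exists_ratPoint_lift q m
    exact isSolvableGrp_of_points Q
  obtain ⟨S, _, s, π, hS, hsm, hπm, hsπ, hrig, huniv⟩ := exists_complement hsQ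
  haveI := hsm; haveI := hπm
  have hqπ : q ≫ π = 1 := eq_one_of_kills_maxTorus hsolv hT hS (q ≫ π) (by
    rw [← Category.assoc, AlgGrpLib.kernel_comp hker, MonObj.one_comp])
  have hS1 : 𝟙 S = 1 := by
    have hπ1 : π = 1 := by
      haveI : Epi q.left := Flat.epi_of_flat_of_surjective q.left
      haveI : Epi q := (Over.forget _).epi_of_epi_map (f := q) ‹_›
      rw [← cancel_epi q, hqπ, MonObj.comp_one]
    rw [← hsπ, hπ1, MonObj.comp_one]
  have hQ : Red.HasNoSubtorus k Q := by
    intro P _ j _ _ hP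
    obtain ⟨v, hv⟩ := huniv P hP j
    have h1 : j ≫ π ≫ s = 1 := by
      conv_lhs => rw [← Category.id_comp s, hS1, MonObj.one_comp, MonObj.comp_one, MonObj.comp_one]
    rw [h1, _root_.mul_one, mul_inv_cancel] at hv
    have hP1 : 𝟙 P = 1 := by rw [← cancel_mono j, Category.id_comp, MonObj.one_comp, hv]
    haveI : IsIso (toUnit P) := ⟨η[P], by
      rw [AlgGrpLib.one_unit, MonObj.comp_one]; exact hP1.symm, toUnit_unique _ _⟩
    haveI : IsIso (toUnit P).left := inferInstanceAs (IsIso ((Over.forget _).map (toUnit P)))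
    show IsIso P.hom
    rw [show P.hom = (toUnit P).left from ((Category.comp_id _).symm.trans (Over.w (toUnit P))).symm]
    infer_instance
  haveI : Group.IsNilpotent (𝟙_ (Over (Spec (CommRingCat.of k))) ⟶ Q) := by
    obtain ⟨A, _, _, e, _, _⟩ := HopfQuot.exists_spec (k := k) Q
    haveI : IsMonHom (CategoryTheory.inv e) := inferInstanceAs (IsMonHom (asIso e).inv)
    haveI : LocallyOfFiniteType (HopfQuot.spec (k := k) A).hom := by
      haveI : IsIso e.left := inferInstanceAs (IsIso ((Over.forget _).map e))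
      rw [← Over.w e]; infer_instance
    haveI : Algebra.FiniteType k A :=
      RingHom.finiteType_algebraMap.1 ((HasRingHomProperty.Spec_iff (P := @LocallyOfFiniteType)
        (φ := CommRingCat.ofHom (algebraMap k A))).1 ‹LocallyOfFiniteType (HopfQuot.spec (k := k) A).hom›)
    haveI := HopfLib.isNilpotent_points (k := k) (AlgGrpLib.NoTorus.isUnipotent_of_hasNoSubtorus hQ e)
    choose φ hφ using fun g : 𝟙_ (Over (Spec (CommRingCat.of k))) ⟶ Q =>
      CentConn12.ratPt_surjective (g ≫ CategoryTheory.inv e)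
    let f : (𝟙_ (Over (Spec (CommRingCat.of k))) ⟶ Q) →* HopfQuot.Pt k A k :=
      MonoidHom.mk' φ fun g h => by
        apply CentConn12.ratPt_injective
        rw [AGFQuot23.ratPt_mul, hφ, hφ, hφ, MonObj.mul_comp]
    refine Subgroup.isNilpotent_of_ker_le_center f fun g hg => ?_
    have h : g ≫ CategoryTheory.inv e = 1 := by
      rw [← hφ g]
      exact (congrArg AGFQuot23.ratPt (MonoidHom.mem_ker.1 hg)).trans AGFQuot23.ratPt_one
    rw [← MonObj.one_comp (CategoryTheory.inv e), cancel_mono] at h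
    rw [h]
    exact Subgroup.one_mem _
  haveI : Group.IsNilpotent (𝟙_ (Over (Spec (CommRingCat.of k))) ⟶ G) := by
    refine Subgroup.isNilpotent_of_ker_le_center
      (MonoidHom.mk' (fun g => g ≫ q) fun b b' => MonObj.mul_comp b b' q) fun g hg => ?_
    obtain ⟨z, hz⟩ := AlgGrpLib.exists_lift_kernel hker (MonoidHom.mem_ker.1 hg)
    refine Subgroup.mem_center_iff.2 fun h => ?_
    rw [← hz]
    exact hc h z
  let P := AlgGrpLib.PointsDense.spK k k
  haveI : IsIso (toUnit P).left := by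
    have h : (toUnit P).left = P.hom := (Category.comp_id _).symm.trans (Over.w (toUnit P))
    rw [h]
    show IsIso (Spec.map (CommRingCat.ofHom (algebraMap k k)))
    rw [show CommRingCat.ofHom (algebraMap k k) = 𝟙 (CommRingCat.of k) from rfl, Spec.map_id]
    infer_instance
  haveI : IsIso (toUnit P) := (isIso_iff_of_reflects_iso _ (Over.forget _)).1 ‹_›
  let f : (P ⟶ G) →* (𝟙_ (Over (Spec (CommRingCat.of k))) ⟶ G) :=
    MonoidHom.mk' (fun g => inv (toUnit P) ≫ g) fun g g' => MonObj.comp_mul _ g g'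
  haveI : Group.IsNilpotent (P ⟶ G) := Subgroup.isNilpotent_of_ker_le_center f fun g hg => by
    have : g = 1 := (cancel_epi (inv (toUnit P))).1 ((MonoidHom.mem_ker.1 hg).trans (MonObj.comp_one _).symm)
    rw [this]
    exact Subgroup.one_mem _
  obtain ⟨n, hn⟩ := Subgroup.nilpotent_iff_lowerCentralSeries.1 (inferInstance : Group.IsNilpotent (P ⟶ G))
  exact ⟨n, fun X => Subgroup.lowerCentralSeries_eq_bot_iff_upperCentralSeries_eq_top.1
    (((SGA3DerLib.series_iff G n k).2).2 hn X)⟩

omit hc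

theorem exists_maxTorus (G : Over (Spec (CommRingCat.of k))) [GrpObj G] [IsAffine G.left] [Smooth G.hom]
    [ConnectedSpace G.left] :
    ∃ (T : Over (Spec (CommRingCat.of k))) (_ : GrpObj T) (iT : T ⟶ G), AGF.IsMaxTorus iT := by
  haveI : QuasiCompact G.hom := (quasiCompact_iff_compactSpace G.hom).2 inferInstance
  obtain ⟨B, _, iB, hB⟩ := exists_isBorelOver k G
  obtain ⟨hBi, hBcl, hBsm, hBconn, hBsolv, -⟩ := id hB
  haveI := hBi; haveI := hBcl; haveI := hBsm; haveI := hBconn
  haveI : IsAffine B.left := isAffine_of_isAffineHom iB.left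
  haveI : Mono iB := Over.mono_of_mono_left _
  obtain ⟨S, _, s, π, hS, hsm, hπm, hsπ, -, huniv⟩ := exists_complement hBsolv
  haveI := hsm; haveI := hπm
  obtain ⟨_, _⟩ := isAffine_and_connected_of_isTorus hS
  haveI : Smooth S.hom := AlgGrpLib.AxesTorus.smooth_of_isTorus hS
  haveI : Mono s := (SplitMono.mk π hsπ).mono
  refine ⟨S, inferInstance, s ≫ iB, inferInstance, mono_comp _ _, hS, fun T' _ j _ _ f hT' hfj => ?_⟩
  obtain ⟨_, _⟩ := isAffine_and_connected_of_isTorus hT'
  obtain ⟨g, h, hh, hhB⟩ := exists_into_borel hB hT' j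
  haveI := hh
  obtain ⟨v, hv⟩ := huniv T' hT' h
  have e : h = (h ≫ π ≫ s) ≫ cj v⁻¹ := by
    rw [comp_cj]
    simpa [cst, GrpObj.comp_inv] using hv
  have hjm : (h ≫ π) ≫ ((s ≫ cj v⁻¹) ≫ iB) ≫ cj g⁻¹ = j := by
    rw [← Category.assoc (h ≫ π), ← Category.assoc (h ≫ π)]
    rw [show ((h ≫ π) ≫ s ≫ cj v⁻¹) = h by simpa only [Category.assoc] using e.symm, hhB, Category.assoc, cj_cancel',
      Category.comp_id]
  haveI : Mono (h ≫ π) := mono_of_mono_fac hjm
  haveI : Mono f := mono_of_mono_fac hfj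
  haveI : Mono (f ≫ h ≫ π) := mono_comp _ _
  haveI : LocallyOfFiniteType S.hom := inferInstance
  haveI : QuasiCompact S.hom := (quasiCompact_iff_compactSpace S.hom).2 inferInstance
  haveI : IsIso (f ≫ h ≫ π).left := MonoEndo26.isIso_of_mono_endo S.hom _ (Over.w _)
  haveI : IsIso (f ≫ h ≫ π) := (isIso_iff_of_reflects_iso _ (Over.forget _)).1 ‹_›
  haveI : IsSplitEpi (h ≫ π) := ⟨⟨inv (f ≫ h ≫ π) ≫ f, by rw [Category.assoc, IsIso.inv_hom_id]⟩⟩
  haveI : IsIso (h ≫ π) := isIso_of_mono_of_isSplitEpi _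
  exact IsIso.of_isIso_comp_right f (h ≫ π)

theorem connected_fibre (G : Over (Spec (CommRingCat.of k))) [ConnectedSpace G.left] (x : ↥(Spec (CommRingCat.of k))) :
    ConnectedSpace ↥(pullback G.hom ((Spec (CommRingCat.of k)).fromSpecResidueField x)) := by
  have hsurj : Function.Surjective (G.hom.fiberι x) := fun a => by
    have ha : a ∈ Set.range (G.hom.fiberι x) := by
      rw [Scheme.Hom.range_fiberι]
      exact Subsingleton.elim (α := PrimeSpectrum k) _ _
    exact ha
  let e := (G.hom.fiberι x).isEmbedding.toHomeomorphOfSurjective hsurj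
  exact e.symm.surjective.connectedSpace e.symm.continuous

end Groth.Agent.MaxTorImg10
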