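import Groth.Agent.MaxTorus26.Basic
import Groth.Agent.SGA3cLib.MTTransporter

/-! Subtori central in a group lie in the maximal torus of its centre. -/

set_option autoImplicit false
set_option backward.isDefEq.respectTransparency false
set_option synthInstance.maxHeartbeats 400000
set_option maxHeartbeats 1600000
set_option linter.style.haveILetI false

universe u

open CategoryTheory CategoryTheory.Limits MonoidalCategory CartesianMonoidalCategory MonObj AlgebraicGeometry

noncomputable section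

namespace Groth.Agent.MaxTorImg10.CentralTorus

open SGA3cLib

/-- Two commuting tori lie in a torus, in any separated group over a field. -/
theorem exists_torus_ge {K : Type u} [Field K] {C T R : Over (Spec (CommRingCat.of K))} [GrpObj C] [GrpObj T] [GrpObj R]
    [IsSeparated C.hom] (hT : Red.IsTorus T) (hR : Red.IsTorus R)
    (i : T ⟶ C) (j : R ⟶ C) [IsMonHom i] [IsMonHom j]
    (hcomm : ∀ (X : Over (Spec (CommRingCat.of K))) (t : X ⟶ T) (r : X ⟶ R),
      (t ≫ i) * (r ≫ j) = (r ≫ j) * (t ≫ i)) :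
    ∃ (Q : Over (Spec (CommRingCat.of K))) (_ : GrpObj Q) (m : Q ⟶ C) (a : T ⟶ Q) (b : R ⟶ Q),
      IsMonHom m ∧ Mono m ∧ Red.IsTorus Q ∧ a ≫ m = i ∧ b ≫ m = j := by
  have hP : Red.IsTorus (T ⊗ R) := MaxTorus26.isTorus_tensor hT hR
  have hPm : SGA3x.IsMultTypeFT (T ⊗ R) := MultExt26.isMultTypeFT_of_torus _ hP
  haveI := TrivLocus.locallyOfFinitePresentation_of_multTypeFT _ hPm
  let w : T ⊗ R ⟶ C := (fst T R ≫ i) * (snd T R ≫ j)
  haveI : IsMonHom w := BCPoints.isMonHom_of_mul w fun X x y => by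
    simp only [w, MonObj.comp_mul, MonObj.mul_comp, ← Category.assoc]
    rw [_root_.mul_assoc, _root_.mul_assoc, ← _root_.mul_assoc ((y ≫ fst T R) ≫ i),
      hcomm X (y ≫ fst T R) (x ≫ snd T R), _root_.mul_assoc]
  let k := UnipStruct.kerι w
  haveI : IsClosedImmersion k.left := UnipStruct.isClosedImmersion_kerι w
  haveI : IsMonHom k := UnipStruct.isMonHom_kerι w
  haveI : Mono k := Over.mono_of_mono_left k
  haveI : LocallyOfFiniteType (UnipStruct.kerObj w).hom := by rw [← Over.w k]; infer_instance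
  have hKm : SGA3x.IsMultTypeFT (UnipStruct.kerObj w) :=
    Groth.Agent.S19598.result (UnipStruct.kerObj w) (T ⊗ R) hPm k inferInstance inferInstance inferInstance
  obtain ⟨Q, _, q, hq, hquot, -, m, hm, hmono, hqm⟩ :=
    Groth.Agent.S5417.result _ (T ⊗ R) C (Or.inr inferInstance) w (UnipStruct.kerObj w) k
      (UnipStruct.isKernel_kerι w)
  have hQ : Red.IsTorus Q := Groth.Agent.S16615.result hP k hKm q hquot
  refine ⟨Q, inferInstance, m, lift (𝟙 T) 1 ≫ q, lift 1 (𝟙 R) ≫ q, hm, hmono, hQ, ?_, ?_⟩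
  · rw [Category.assoc, hqm]
    simp only [w, MonObj.comp_mul, lift_fst_assoc, lift_snd_assoc, Category.id_comp, MonObj.one_comp, _root_.mul_one]
  · rw [Category.assoc, hqm]
    simp only [w, MonObj.comp_mul, lift_fst_assoc, lift_snd_assoc, Category.id_comp, MonObj.one_comp, _root_.one_mul]

variable {S : Scheme.{u}}

/-- Tori, one central, which coincide on geometric fibres are equal. -/
theorem exists_iso_of_geom {C T R : Over S} [GrpObj C] [GrpObj T] [GrpObj R] [IsSeparated C.hom]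
    [LocallyOfFiniteType C.hom] (hT : Red.IsTorus T) (hR : Red.IsTorus R) (i : T ⟶ C) (j : R ⟶ C)
    [IsMonHom i] [Mono i] [IsMonHom j] [Mono j]
    (hcomm : ∀ (X : Over S) (c : X ⟶ C) (t : X ⟶ T), c * (t ≫ i) = (t ≫ i) * c)
    (hgeo : ∀ s : S, ∃ ψ : Red.geomFibre s T ≅ Red.geomFibre s R,
      ψ.hom ≫ (Over.pullback (Red.geomPt s)).map j = (Over.pullback (Red.geomPt s)).map i) :
    ∃ φ : R ≅ T, φ.hom ≫ i = j := by
  haveI : Mono i.left := inferInstanceAs (Mono ((Over.forget S).map i))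
  haveI : Mono j.left := inferInstanceAs (Mono ((Over.forget S).map j))
  obtain ⟨U, -, hU, hgood⟩ := CentralEq.exists_clopen i j (Or.inr inferInstance)
    (MultExt26.isMultTypeFT_of_torus T hT) (MultExt26.isMultTypeFT_of_torus R hR) hcomm
  have hall : ∀ s : S, s ∈ U := fun s => by
    obtain ⟨p⟩ : Nonempty (Spec (CommRingCat.of (AlgebraicClosure (S.residueField s)))) := inferInstance
    have h := (CentralEq.good_field i j (Red.geomPt s) p).1 ((CentralEq.good_iff i j _).2 (hgeo s))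
    have hp : (Red.geomPt s).base p = s := by
      rw [Scheme.Hom.comp_apply]; exact Scheme.fromSpecResidueField_apply _ _
    rw [hp] at h
    exact (hU s).2 h
  have hr : Set.range (𝟙 S : S ⟶ S) ⊆ Set.range U.ι := by
    rw [Scheme.Opens.range_ι]; exact fun s _ => hall s
  have hk : IsOpenImmersion.lift U.ι (𝟙 S) hr ≫ U.ι = 𝟙 S := IsOpenImmersion.lift_fac _ _ _
  have h1 : CentralEq.Good i j (𝟙 S) :=
    @CentralEq.Good.of_comp S C T R i j (U : Scheme.{u}) S U.ι hgood (IsOpenImmersion.lift U.ι (𝟙 S) hr) (𝟙 S) hk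
  obtain ⟨ψ, hψ⟩ := (CentralEq.good_iff i j _).1 h1
  let α : Over.pullback (𝟙 S) ≅ 𝟭 (Over S) := Over.pullbackId
  refine ⟨(α.app R).symm ≪≫ ψ.symm ≪≫ α.app T, ?_⟩
  show (α.inv.app R ≫ ψ.inv ≫ α.hom.app T) ≫ i = j
  have hn : ∀ {X : Over S} (w : X ⟶ C), α.hom.app X ≫ w = (Over.pullback (𝟙 S)).map w ≫ α.hom.app C :=
    fun w => (α.hom.naturality w).symm
  rw [Category.assoc, Category.assoc, hn i,
    show ψ.inv ≫ (Over.pullback (𝟙 S)).map i ≫ α.hom.app C =
      (Over.pullback (𝟙 S)).map j ≫ α.hom.app C by rw [← hψ]; simp, ← hn j, ← Category.assoc]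
  simp

/-- A torus lying in a central torus on every geometric fibre lies in it. -/
theorem exists_le_of_geom {C T R : Over S} [GrpObj C] [GrpObj T] [GrpObj R] [IsSeparated C.hom]
    [LocallyOfFiniteType C.hom] (hT : Red.IsTorus T) (hR : Red.IsTorus R) (i : T ⟶ C) (j : R ⟶ C)
    [IsMonHom i] [Mono i] [IsMonHom j]
    (hcomm : ∀ (X : Over S) (c : X ⟶ C) (t : X ⟶ T), c * (t ≫ i) = (t ≫ i) * c)
    (hgeo : ∀ s : S, ∃ f₀ : Red.geomFibre s R ⟶ Red.geomFibre s T,
      f₀ ≫ (Over.pullback (Red.geomPt s)).map i = (Over.pullback (Red.geomPt s)).map j) :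
    ∃ f : R ⟶ T, f ≫ i = j := by
  haveI := TrivLocus.locallyOfFinitePresentation_of_multTypeFT _ (MultExt26.isMultTypeFT_of_torus _ hR)
  haveI : IsAffineHom R.hom := SGA3cLib.torus_isAffineHom hR
  haveI : IsSeparated (C ⊗ R).hom := inferInstanceAs (IsSeparated (pullback.fst C.hom R.hom ≫ C.hom))
  haveI : LocallyOfFiniteType (C ⊗ R).hom := inferInstanceAs (LocallyOfFiniteType (pullback.fst C.hom R.hom ≫ C.hom))
  let i₁ : T ⊗ R ⟶ C ⊗ R := lift (fst T R ≫ i) (snd T R)
  let i₂ : T ⊗ R ⟶ C ⊗ R := lift ((fst T R ≫ i) * (snd T R ≫ j)) (snd T R)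
  have hl : ∀ {X : Over S} (a : X ⟶ C) (b : X ⟶ R) (a' : X ⟶ C) (b' : X ⟶ R),
      lift a b * lift a' b' = lift (a * a') (b * b') := fun a b a' b' => by
    apply CartesianMonoidalCategory.hom_ext <;> simp [MonObj.mul_comp]
  haveI : IsMonHom i₁ := BCPoints.isMonHom_of_mul i₁ fun X x y => by
    simp only [i₁, comp_lift, hl, MonObj.mul_comp, ← Category.assoc]
  haveI : IsMonHom i₂ := BCPoints.isMonHom_of_mul i₂ fun X x y => by
    simp only [i₂, comp_lift, hl, MonObj.comp_mul, MonObj.mul_comp, ← Category.assoc]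
    congr 1
    simp only [_root_.mul_assoc]
    rw [← _root_.mul_assoc ((x ≫ snd T R) ≫ j), hcomm X ((x ≫ snd T R) ≫ j) (y ≫ fst T R)]
    simp only [_root_.mul_assoc]
  haveI : Mono i₁ := ⟨fun a b h => by
    have h1 := congrArg (· ≫ fst C R) h
    have h2 := congrArg (· ≫ snd C R) h
    simp only [i₁, Category.assoc, lift_fst, lift_snd] at h1 h2
    refine CartesianMonoidalCategory.hom_ext _ _ ?_ h2
    rw [← cancel_mono i, Category.assoc, h1, Category.assoc]⟩
  haveI : Mono i₂ := ⟨fun a b h => by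
    have h1 := congrArg (· ≫ fst C R) h
    have h2 := congrArg (· ≫ snd C R) h
    simp only [i₂, Category.assoc, lift_fst, lift_snd, MonObj.comp_mul] at h1 h2
    refine CartesianMonoidalCategory.hom_ext _ _ ?_ h2
    rw [← Category.assoc a (snd T R), ← Category.assoc b (snd T R), h2, mul_left_inj] at h1
    rw [← cancel_mono i, Category.assoc, h1, Category.assoc]⟩
  have hcomm' : ∀ (X : Over S) (c : X ⟶ C ⊗ R) (t : X ⟶ T ⊗ R), c * (t ≫ i₁) = (t ≫ i₁) * c := fun X c t => by
    have hc : c = lift (c ≫ fst C R) (c ≫ snd C R) := by rw [← comp_lift, lift_fst_snd, Category.comp_id]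
    rw [hc]
    simp only [i₁, comp_lift, hl, ← Category.assoc]
    rw [hcomm, torus_mul_comm hR]
  obtain ⟨φ, hφ⟩ := exists_iso_of_geom (MaxTorus26.isTorus_tensor hT hR) (MaxTorus26.isTorus_tensor hT hR) i₁ i₂
    hcomm' fun s => by
      let σ := Red.geomPt s
      obtain ⟨f₀, hf₀⟩ := hgeo s
      let F := Over.pullback σ
      haveI : F.IsRightAdjoint := (Over.mapPullbackAdj _).isRightAdjoint
      let P := F.obj (T ⊗ R)
      let e := (BCPoints.pt σ (T ⊗ R) P).symm (𝟙 P)
      let n := (BCPoints.pt σ T P).symm (F.map (snd T R) ≫ f₀)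
      have he : ∀ {Y : Over S} (g : T ⊗ R ⟶ Y), BCPoints.pt σ Y P (e ≫ g) = F.map g := fun g => by
        rw [BCPoints.pt_comp, Equiv.apply_symm_apply, Category.id_comp]
      have hn : n ≫ i = e ≫ snd T R ≫ j := by
        apply (BCPoints.pt σ C P).injective
        rw [BCPoints.pt_comp, Equiv.apply_symm_apply, Category.assoc, hf₀, he, ← Functor.map_comp]
      let a := lift ((e ≫ fst T R) * n) (e ≫ snd T R)
      let b := lift ((e ≫ fst T R) * n⁻¹) (e ≫ snd T R)
      have ha : BCPoints.pt σ _ P a ≫ F.map i₁ = F.map i₂ := by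
        rw [← BCPoints.pt_comp, ← he i₂]
        congr 1
        simp only [a, i₁, i₂, comp_lift, lift_fst_assoc, lift_snd, MonObj.mul_comp, MonObj.comp_mul, Category.assoc, hn]
      have hb : BCPoints.pt σ _ P b ≫ F.map i₂ = F.map i₁ := by
        rw [← BCPoints.pt_comp, ← he i₁]
        congr 1
        simp only [b, i₁, i₂, comp_lift, MonObj.comp_mul, lift_fst_assoc, lift_snd, lift_snd_assoc, MonObj.mul_comp,
          GrpObj.inv_comp, Category.assoc, hn, inv_mul_cancel_right]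
      refine ⟨⟨BCPoints.pt σ _ P b, BCPoints.pt σ _ P a, ?_, ?_⟩, hb⟩
      · rw [← cancel_mono (F.map i₁), Category.assoc, Category.id_comp]
        exact (congrArg (_ ≫ ·) ha).trans hb
      · rw [← cancel_mono (F.map i₂), Category.assoc, Category.id_comp]
        exact (congrArg (_ ≫ ·) hb).trans ha
  refine ⟨lift 1 (𝟙 R) ≫ φ.hom ≫ fst T R, ?_⟩
  have h := congrArg (fun g => lift (1 : R ⟶ T) (𝟙 R) ≫ g ≫ fst C R) hφ
  simp only [i₁, i₂, Category.assoc, lift_fst, MonObj.comp_mul, lift_fst_assoc, lift_snd_assoc, MonObj.one_comp,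
    _root_.one_mul, Category.id_comp] at h
  simpa only [Category.assoc] using h

/-- A torus central in `Z` lies in the maximal torus of the centre of `Z`. -/
theorem le_radical {Z ZZ R Q : Over S} [GrpObj Z] [GrpObj ZZ] [GrpObj R] [GrpObj Q] [IsSeparated Z.hom]
    [LocallyOfFiniteType Z.hom] {jz : ZZ ⟶ Z} (hZZ : Red.IsCentre jz) {r : R ⟶ ZZ} (hR : Red.IsMaximalTorus r)
    (hQ : Red.IsTorus Q) (q : Q ⟶ Z) [IsMonHom q]
    (hq : ∀ (X : Over S) (c : X ⟶ Z) (t : X ⟶ Q), c * (t ≫ q) = (t ≫ q) * c) :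
    ∃ f : Q ⟶ R, f ≫ r ≫ jz = q := by
  haveI := hZZ.1
  haveI := hZZ.2.1
  obtain ⟨hrh, hrm, hRt, hmax⟩ := hR
  haveI := hrh
  haveI := hrm
  obtain ⟨q₁, hq₁⟩ := (hZZ.2.2 Q q).2 fun X x h => by
    rw [Category.comp_id]; exact (hq X h x).symm
  haveI : IsMonHom q₁ := BCPoints.isMonHom_of_mul q₁ fun X x y => by
    rw [← cancel_mono jz, Category.assoc, hq₁, MonObj.mul_comp, MonObj.mul_comp]
    simp only [Category.assoc, hq₁]
  have hzz : ∀ (X : Over S) (c : X ⟶ Z) (t : X ⟶ ZZ), c * (t ≫ jz) = (t ≫ jz) * c := fun X c t => by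
    have h := (hZZ.2.2 ZZ jz).1 ⟨𝟙 ZZ, Category.id_comp jz⟩ X t c
    rw [Category.comp_id] at h
    exact h.symm
  haveI : Mono jz.left := inferInstanceAs (Mono ((Over.forget S).map jz))
  haveI : IsSeparated ZZ.hom := by rw [← Over.w jz]; infer_instance
  haveI : Mono (r ≫ jz) := mono_comp r jz
  refine exists_le_of_geom hRt hQ (r ≫ jz) q (fun X c t => by rw [← Category.assoc]; exact hzz X c _) fun s => ?_
  let σ := Red.geomPt s
  let F := Over.pullback σ
  haveI : IsMonHom (F.map r) := inferInstanceAs (IsMonHom ((Over.pullback σ).map r))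
  haveI : IsMonHom (F.map q₁) := inferInstanceAs (IsMonHom ((Over.pullback σ).map q₁))
  haveI : IsSeparated (Red.geomFibre s ZZ).hom := inferInstanceAs (IsSeparated (pullback.snd ZZ.hom σ))
  obtain ⟨W, _, m, a, b, hm, hmono, hW, ha, hb⟩ := exists_torus_ge (C := Red.geomFibre s ZZ)
    (TorusAb27.isTorus_bc σ R hRt) (TorusAb27.isTorus_bc σ Q hQ) (F.map r) (F.map q₁) fun X t x => by
      obtain ⟨t, rfl⟩ := (BCPoints.pt σ R X).surjective t
      obtain ⟨x, rfl⟩ := (BCPoints.pt σ Q X).surjective x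
      rw [← BCPoints.pt_comp, ← BCPoints.pt_comp, ← BCPoints.pt_mul, ← BCPoints.pt_mul]
      congr 1
      rw [← cancel_mono jz, MonObj.mul_comp, MonObj.mul_comp]
      exact (hzz _ _ _)
  haveI := hm
  haveI := hmono
  haveI := hmax s W m a hW ha
  refine ⟨b ≫ inv a, ?_⟩
  rw [Functor.map_comp, Category.assoc]
  have h1 : inv a ≫ F.map r = m := by rw [IsIso.inv_comp_eq, ha]
  rw [← Category.assoc (inv a), h1, ← Category.assoc, hb, ← Functor.map_comp, hq₁]

/-- Centralizers of tori in a smooth separated group are separated and locally of finite type. -/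
theorem centralizer_sep {G Q Z : Over S} [GrpObj G] [GrpObj Q] [GrpObj Z] [IsSeparated G.hom] [Smooth G.hom]
    (hQ : Red.IsTorus Q) (q : Q ⟶ G) [IsMonHom q] {z : Z ⟶ G} (hZ : Red.IsCentralizerOf q z) :
    IsSeparated Z.hom ∧ LocallyOfFiniteType Z.hom := by
  obtain ⟨Z', gZ', z', hz', hc, -⟩ := MTTransporter.exists_centralizer q
    (CentralFib.locally_of_multTypeFT (MultExt26.isMultTypeFT_of_torus Q hQ))
  letI := gZ'
  haveI := hz'.2.1
  haveI := hZ.2.1
  haveI := hc
  obtain ⟨e, he⟩ := (hz'.2.2 Z z).2 ((hZ.2.2 Z z).1 ⟨𝟙 Z, Category.id_comp z⟩)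
  obtain ⟨e', he'⟩ := (hZ.2.2 Z' z').2 ((hz'.2.2 Z' z').1 ⟨𝟙 Z', Category.id_comp z'⟩)
  let E : Z ≅ Z' := ⟨e, e', by rw [← cancel_mono z, Category.assoc, he', he, Category.id_comp],
    by rw [← cancel_mono z', Category.assoc, he, he', Category.id_comp]⟩
  haveI : IsIso e.left := inferInstanceAs (IsIso ((Over.forget S).mapIso E).hom)
  haveI : IsClosedImmersion z.left := by rw [← he, Over.comp_left]; infer_instance
  constructor <;> (rw [← Over.w z]; infer_instance)

end Groth.Agent.MaxTorImg10.CentralTorus
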