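import Groth.Agent.HMTor29.MaxTorus
import Groth.Agent.CohDer1.PointedSplit.Eigen

/-! # The torus quotient of a connected solvable group detects homomorphisms to tori -/

set_option autoImplicit false
set_option linter.style.haveILetI false
set_option backward.isDefEq.respectTransparency.types false

noncomputable section

universe u

open CategoryTheory CategoryTheory.Limits MonoidalCategory CartesianMonoidalCategory MonObj GrpObj AlgebraicGeometry
open CoactBr (sp pt)
open WithConv
open Groth.Agent.HopfQuot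
open scoped TensorProduct

namespace Groth.Agent.MaxTorImg10

open Groth.Agent.HMTor29 Groth.Agent.HMTor29.MaxTorus

variable {k : Type u} [Field k] [IsAlgClosed k]

theorem eq_of_forall_point {A : Type u} [CommRing A] [Algebra k A] [_root_.IsReduced A] [Algebra.FiniteType k A]
    {a b : A} (h : ∀ f : A →ₐ[k] k, f a = f b) : a = b := by
  haveI : IsJacobsonRing A := isJacobsonRing_of_finiteType (A := k)
  rw [← sub_eq_zero]
  have hm : a - b ∈ Ideal.jacobson (⊥ : Ideal A) := by
    rw [Ideal.jacobson, Ideal.mem_sInf]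
    rintro m ⟨-, hm⟩
    haveI := hm
    letI := Ideal.Quotient.field m
    haveI : Module.Finite k (A ⧸ m) := finite_of_finite_type_of_isJacobsonRing k (A ⧸ m)
    let e : k ≃ₐ[k] A ⧸ m := AlgEquiv.ofBijective (Algebra.ofId k (A ⧸ m))
      IsAlgClosed.algebraMap_bijective_of_isIntegral
    have := h ((e.symm : A ⧸ m →ₐ[k] k).comp (Ideal.Quotient.mkₐ k m))
    have h2 := e.symm.injective this
    exact Ideal.Quotient.eq.1 h2
  have hjac : Ideal.jacobson (⊥ : Ideal A) = ⊥ :=
    IsJacobsonRing.out ‹IsJacobsonRing A› Ideal.isRadical_bot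
  rwa [hjac, Ideal.mem_bot] at hm

/-- a group-like element is recovered from its restriction to the torus -/
theorem groupLike_eq {A M : Type u} [CommRing A] [HopfAlgebra k A] [CommGroup M] [_root_.IsReduced A]
    [Algebra.FiniteType k A] (φ : MonoidAlgebra k M →ₐc[k] A) (r : A →ₐc[k] MonoidAlgebra k M)
    (hrφ : ∀ d, r (φ d) = d) (J : Ideal A) [J.IsHopfIdeal k]
    (hJ : J = Ideal.map (φ : MonoidAlgebra k M →+* A)
      (RingHom.ker (Bialgebra.counitAlgHom k (MonoidAlgebra k M))))
    (hU : HopfRep.IsUnipotent k (A ⧸ J)) {χ : A} (hχ : IsGroupLikeElem k χ) : φ (r χ) = χ := by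
  refine eq_of_forall_point (k := k) fun h => ?_
  have hg : IsGroupLikeElem k (φ (r χ)) := (hχ.map r).map φ
  let H : WithConv (A →ₐ[k] k) := toConv h
  let H' : WithConv (A →ₐ[k] k) := toConv (h.comp ((φ.comp r : A →ₐc[k] A) : A →ₐ[k] A))
  let u := H'⁻¹ * H
  have hev : ∀ (f g : WithConv (A →ₐ[k] k)) (c : A), IsGroupLikeElem k c →
      (f * g).ofConv c = f.ofConv c * g.ofConv c := fun f g c hc => Conj.apply_groupLike_mul hc f g
  have hinv : ∀ (f : WithConv (A →ₐ[k] k)) (c : A), IsGroupLikeElem k c → f⁻¹.ofConv c * f.ofConv c = 1 :=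
    fun f c hc => by
      rw [← hev _ _ _ hc, inv_mul_cancel, Conj.one_apply', hc.counit_eq_one, map_one]
  have hbase : ∀ d : MonoidAlgebra k M, u.ofConv (φ d) = algebraMap k k (Coalgebra.counit (R := k) d) := by
    have : (u.ofConv.comp (φ : MonoidAlgebra k M →ₐ[k] A)) =
        (Algebra.ofId k k).comp (Bialgebra.counitAlgHom k (MonoidAlgebra k M)) := by
      refine MonoidAlgebra.algHom_ext (fun m => ?_) (Subsingleton.elim _ _)
      have hm : IsGroupLikeElem k (φ (MonoidAlgebra.single m 1)) :=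
        (MonoidAlgebra.isGroupLikeElem_single_one m).map φ
      show u.ofConv (φ (MonoidAlgebra.single m 1)) = _
      rw [hev _ _ _ hm]
      have e : H'.ofConv (φ (MonoidAlgebra.single m 1)) = H.ofConv (φ (MonoidAlgebra.single m 1)) := by
        show h (φ (r (φ (MonoidAlgebra.single m 1)))) = h (φ (MonoidAlgebra.single m 1))
        rw [hrφ]
      rw [← e, hinv _ _ hm]
      simp
    exact fun d => DFunLike.congr_fun this d
  have hJu : ∀ a ∈ J, u.ofConv a = 0 := by
    intro a ha
    have hle : J ≤ RingHom.ker u.ofConv.toRingHom := by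
      rw [hJ, Ideal.map_le_iff_le_comap]
      intro d hd
      rw [Ideal.mem_comap, RingHom.mem_ker]
      show u.ofConv (φ d) = 0
      rw [hbase d]
      rw [RingHom.mem_ker] at hd
      simpa using congrArg (algebraMap k k) hd
    exact hle ha
  have hq : Ideal.Quotient.mk J χ = 1 := by
    have hχ' : IsGroupLikeElem k (Ideal.Quotient.mk J χ) :=
      hχ.map (Bialgebra.Quotient.mkBialgHom (R := k) J)
    exact CohDer1.PointedSplit.groupLike_eq_one_of_isUnipotent hU hχ'
  have hu1 : u.ofConv χ = 1 := by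
    have := hJu (χ - 1) (by rw [← Ideal.Quotient.eq, map_one]; exact hq)
    rwa [map_sub, map_one, sub_eq_zero] at this
  show H'.ofConv χ = H.ofConv χ
  have e : H = H' * u := by simp [u]
  conv_rhs => rw [e]
  rw [hev _ _ _ hχ, hu1, _root_.mul_one]

/-- a connected solvable group has a torus quotient with section through which every homomorphism to a torus
factors and into which every torus is conjugate -/
theorem exists_complement {H : Over (Spec (CommRingCat.of k))} [GrpObj H] [IsAffine H.left] [Smooth H.hom]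
    [ConnectedSpace H.left] (hs : Red.IsSolvableGrp H) :
    ∃ (S : Over (Spec (CommRingCat.of k))) (_ : GrpObj S) (s : S ⟶ H) (π : H ⟶ S),
      Red.IsTorus S ∧ IsMonHom s ∧ IsMonHom π ∧ s ≫ π = 𝟙 S ∧
      (∀ (P : Over (Spec (CommRingCat.of k))) [GrpObj P], Red.IsTorus P → ∀ (f : H ⟶ P) [IsMonHom f],
        π ≫ s ≫ f = f) ∧
      ∀ (P : Over (Spec (CommRingCat.of k))) [GrpObj P], Red.IsTorus P → ∀ (h : P ⟶ H) [IsMonHom h],
        ∃ v : 𝟙_ (Over (Spec (CommRingCat.of k))) ⟶ H,
          h = (toUnit P ≫ v) * (h ≫ π ≫ s) * (toUnit P ≫ v)⁻¹ := by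
  obtain ⟨A, _, _, e, he, hem⟩ := exists_spec (k := k) H
  haveI := he
  haveI := hem
  haveI : IsIso e.left := inferInstanceAs (IsIso ((Over.forget _).map e))
  haveI : Algebra.FiniteType k A := by
    have heft : LocallyOfFiniteType (spec (k := k) A).hom := by rw [← Over.w e]; infer_instance
    exact RingHom.finiteType_algebraMap.1 ((HasRingHomProperty.Spec_iff (P := @LocallyOfFiniteType)).1
      (show LocallyOfFiniteType (Spec.map (CommRingCat.ofHom (algebraMap k A))) from heft))
  haveI : IrreducibleSpace H.left := SGA3cLib.irreducibleSpace_of_connected H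
  haveI : IsReduced H.left := AbSchLib.isReduced_of_smooth H.hom
  haveI : IsIntegral H.left := isIntegral_of_irreducibleSpace_of_isReduced _
  haveI : IsIntegral (Spec (CommRingCat.of A)) := by
    haveI : Nonempty ↥(Spec (CommRingCat.of A)) := ⟨(inv e.left) (Classical.arbitrary H.left)⟩
    haveI hoi : IsOpenImmersion e.left := inferInstanceAs (IsOpenImmersion (asIso e.left).hom)
    exact @isIntegral_of_isOpenImmersion _ _ e.left hoi _ _
  haveI : IsDomain A := (affine_isIntegral_iff (CommRingCat.of A)).1 inferInstance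
  have hconn : ∀ x : A, IsIdempotentElem x → x = 0 ∨ x = 1 := fun x hx => IsIdempotentElem.iff_eq_zero_or_one.1 hx
  obtain ⟨n, hn⟩ := hs
  haveI : IsMonHom (inv e) := inferInstanceAs (IsMonHom (asIso e).inv)
  haveI : Group.IsSolvable (WithConv (A →ₐ[k] k)) := by
    haveI : Group.IsSolvable (sp k k ⟶ H) := ⟨⟨n, hn _⟩⟩
    let f : (sp k k ⟶ H) →* WithConv (A →ₐ[k] k) :=
      (ptSpec (k := k) (A := A) (T := k)).symm.toMonoidHom.comp
        { toFun := fun x => x ≫ inv e
          map_one' := by rw [MonObj.one_comp]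
          map_mul' := fun x y => by rw [MonObj.mul_comp] }
    refine solvable_of_surjective (f := f) fun φ => ⟨ptSpec φ ≫ e, ?_⟩
    show (ptSpec (k := k)).symm ((ptSpec φ ≫ e) ≫ inv e) = φ
    rw [Category.assoc, IsIso.hom_inv_id, Category.comp_id, MulEquiv.symm_apply_apply]
  have hT : HopfRep.IsTrigonalizable k A := S3266.result k A hconn
  obtain ⟨B, _, _, ψ, J, hJH, hψ, hBd, hJ, hU⟩ := (S7967.result k A).1 hT
  haveI := hJH
  have hBdiag : SGA3b.IsDiag k B := SGA3bLib.isDiag_of_span_groupLike hBd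
  obtain ⟨r₀, hr₀⟩ := S4128.result k A B hBdiag ψ hψ J hJ hU
  obtain ⟨M, _, ⟨ε⟩⟩ := hBdiag
  let φ : MonoidAlgebra k M →ₐc[k] A := ψ.comp (ε.symm : MonoidAlgebra k M →ₐc[k] B)
  let r : A →ₐc[k] MonoidAlgebra k M := (ε : B →ₐc[k] MonoidAlgebra k M).comp r₀
  have hrφ : ∀ d, r (φ d) = d := fun d => by
    show ε (r₀ (ψ (ε.symm d))) = d
    rw [show r₀ (ψ (ε.symm d)) = ε.symm d from DFunLike.congr_fun hr₀ _, ε.apply_symm_apply]
  have hφ : Function.Injective φ := fun x y h => by rw [← hrφ x, h, hrφ]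
  have hJ' : J = Ideal.map (φ : MonoidAlgebra k M →+* A)
      (RingHom.ker (Bialgebra.counitAlgHom k (MonoidAlgebra k M))) := by
    rw [hJ]
    refine congrArg Ideal.span (Set.ext fun a => ⟨?_, ?_⟩)
    · rintro ⟨b, hb, rfl⟩
      exact ⟨ε b, (CoalgHomClass.counit_comp_apply ε b).trans hb, congrArg ψ (ε.symm_apply_apply b)⟩
    · rintro ⟨d, hd, rfl⟩
      exact ⟨ε.symm d, (CoalgHomClass.counit_comp_apply ε.symm d).trans hd, rfl⟩
  haveI : IsDomain (MonoidAlgebra k M) :=
    Function.Injective.isDomain (φ : MonoidAlgebra k M →+* A) hφ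
  obtain ⟨rk, ⟨εM⟩⟩ := exists_free_equiv (Algebra.FiniteType.of_surjective (r : A →ₐ[k] MonoidAlgebra k M)
    (fun d => ⟨φ d, hrφ d⟩))
  haveI : IsMonHom (specHom r) := inferInstanceAs (IsMonHom ((hopfSpec (CommRingCat.of k)).map _).hom.hom)
  haveI : IsMonHom (specHom φ) := inferInstanceAs (IsMonHom ((hopfSpec (CommRingCat.of k)).map _).hom.hom)
  have hsπ : (specHom r ≫ e) ≫ inv e ≫ specHom φ = 𝟙 _ := by
    rw [Category.assoc, IsIso.hom_inv_id_assoc]
    refine Over.OverMorphism.ext ?_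
    refine ((Spec.map_comp (CommRingCat.ofHom (φ : MonoidAlgebra k M →+* A))
      (CommRingCat.ofHom (r : A →+* MonoidAlgebra k M))).symm).trans ?_
    rw [← CommRingCat.ofHom_comp,
      show (r : A →+* MonoidAlgebra k M).comp (φ : MonoidAlgebra k M →+* A) = RingHom.id _ from RingHom.ext hrφ]
    exact Spec.map_id _
  refine ⟨spec (k := k) (MonoidAlgebra k M), inferInstance, specHom r ≫ e, inv e ≫ specHom φ, isTorus_spec εM,
    inferInstance, inferInstance, hsπ, fun P _ hP f _ => ?_, fun P _ hP h _ => ?_⟩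
  · obtain ⟨N, _, rP, εN, eP, heP, hePm⟩ := isFreeDiag_of_isTorus P hP
    haveI := heP
    haveI := hePm
    haveI : IsMonHom (inv eP) := inferInstanceAs (IsMonHom (asIso eP).inv)
    obtain ⟨g, hg⟩ := exists_specHom (e ≫ f ≫ inv eP)
    have hfix : ((φ.comp r).comp g : MonoidAlgebra k N →ₐ[k] A) = (g : MonoidAlgebra k N →ₐ[k] A) := by
      refine MonoidAlgebra.algHom_ext (fun m => ?_) (Subsingleton.elim _ _)
      exact groupLike_eq φ r hrφ J hJ' hU ((MonoidAlgebra.isGroupLikeElem_single_one m).map g)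
    have hc : specHom φ ≫ specHom r ≫ specHom g = specHom g := by
      refine Over.OverMorphism.ext ?_
      show Spec.map _ ≫ Spec.map _ ≫ Spec.map _ = Spec.map _
      rw [← Spec.map_comp, ← Spec.map_comp]
      refine congrArg Spec.map (CommRingCat.hom_ext ?_)
      exact congrArg (fun q : MonoidAlgebra k N →ₐ[k] A => q.toRingHom) hfix
    rw [hg] at hc
    rw [← cancel_mono (inv eP), ← cancel_epi e]
    simpa using hc
  obtain ⟨N, _, rP, εN, eP, heP, hePm⟩ := isFreeDiag_of_isTorus P hP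
  haveI := heP
  haveI := hePm
  obtain ⟨f₂, hf₂⟩ := exists_specHom (eP ≫ h ≫ inv e)
  let f₁ : A →ₐc[k] MonoidAlgebra k N := (f₂.comp φ).comp r
  obtain ⟨u, hu⟩ := Conj.exists_conj φ hφ J hJ' hU (divisible_of_free εN) f₁ f₂ (fun d => by
    show f₂ (φ (r (φ d))) = f₂ (φ d)
    rw [hrφ])
  refine ⟨uI ≫ ptSpec u ≫ e, ?_⟩
  have key := congrArg (ptSpec (k := k) (A := A) (T := MonoidAlgebra k N)) hu
  rw [map_mul, map_mul, map_inv] at key
  have e2 : ptSpec (k := k) (toConv (f₂ : A →ₐ[k] MonoidAlgebra k N)) = eP ≫ h ≫ inv e := hf₂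
  have e1 : ptSpec (k := k) (toConv (f₁ : A →ₐ[k] MonoidAlgebra k N)) =
      eP ≫ (h ≫ inv e ≫ specHom φ ≫ specHom r) := by
    have h12 : specHom f₁ = specHom f₂ ≫ specHom φ ≫ specHom r := by
      refine Over.OverMorphism.ext ?_
      refine Eq.trans ?_ (congrArg (Spec.map (CommRingCat.ofHom (f₂ : A →+* MonoidAlgebra k N)) ≫ ·)
        (Spec.map_comp (CommRingCat.ofHom (r : A →+* MonoidAlgebra k M)) (CommRingCat.ofHom (φ : MonoidAlgebra k M →+* A))))
      exact Spec.map_comp (CommRingCat.ofHom (r : A →+* MonoidAlgebra k M) ≫ CommRingCat.ofHom (φ : MonoidAlgebra k M →+* A))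
        (CommRingCat.ofHom (f₂ : A →+* MonoidAlgebra k N))
    rw [show eP ≫ h ≫ inv e ≫ specHom φ ≫ specHom r = (eP ≫ h ≫ inv e) ≫ specHom φ ≫ specHom r by
      simp only [Category.assoc], ← hf₂, ← h12]
    rfl
  have e0 : ptSpec (k := k) (Conj.cst (MonoidAlgebra k N) u) = eP ≫ toUnit P ≫ uI ≫ ptSpec u := by
    have hc : ptSpec (k := k) (Conj.cst (MonoidAlgebra k N) u) =
        pt (Algebra.ofId k (MonoidAlgebra k N)) ≫ ptSpec u := by
      refine Over.OverMorphism.ext ?_
      show Spec.map _ = Spec.map _ ≫ Spec.map _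
      rw [← Spec.map_comp]
      rfl
    rw [hc, ← Category.assoc eP, ← Category.assoc (eP ≫ toUnit P)]
    exact congrArg (· ≫ _) (pt_self _ _)
  rw [e2, e1, e0, ← GrpObj.comp_inv, ← MonObj.comp_mul, ← MonObj.comp_mul, cancel_epi] at key
  rw [← cancel_mono (inv e)]
  rw [key, MonObj.mul_comp, MonObj.mul_comp, GrpObj.inv_comp]
  simp only [Category.assoc, IsIso.hom_inv_id, Category.comp_id, IsIso.hom_inv_id_assoc]


end Groth.Agent.MaxTorImg10
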