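import Groth.Agent.MaxTorImg10.CentralTorus
import Groth.Agent.S3917
import Groth.Prelude.Def_RedSub

/-! Radicals of reductive subgroups of type (R). -/

set_option autoImplicit false
set_option backward.isDefEq.respectTransparency false
set_option synthInstance.maxHeartbeats 400000
set_option maxHeartbeats 1600000
set_option linter.style.haveILetI false

universe u

open CategoryTheory CategoryTheory.Limits MonoidalCategory CartesianMonoidalCategory MonObj GrpObj AlgebraicGeometry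

noncomputable section

namespace Groth.Agent.MaxTorImg10.Radical

open SGA3cLib

/-- Over an algebraically closed field a maximal torus is maximal among subtori. -/
theorem isMaxTorus {k : Type u} [Field k] [IsAlgClosed k] {G T : Over (Spec (CommRingCat.of k))} [GrpObj G] [GrpObj T]
    {i : T ⟶ G} (h : Red.IsMaximalTorus i) : AGF.IsMaxTorus i := by
  obtain ⟨h1, h2, h3, h4⟩ := h
  refine ⟨h1, h2, h3, fun T' _ j _ _ f hT' hfj => ?_⟩
  obtain ⟨s⟩ : Nonempty ↥(Spec (CommRingCat.of k)) := ⟨IsLocalRing.closedPoint k⟩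
  let σ := Red.geomPt s
  haveI : (Over.pullback σ).IsRightAdjoint := (Over.mapPullbackAdj _).isRightAdjoint
  haveI : IsMonHom ((Over.pullback σ).map j) := inferInstance
  haveI : Mono ((Over.pullback σ).map j) := inferInstance
  haveI := h4 s (Red.bc σ T') ((Over.pullback σ).map j) ((Over.pullback σ).map f) (TorusAb27.isTorus_bc σ T' hT')
    (by rw [← Functor.map_comp, hfj])
  haveI : IsIntegralHom σ := AGFImage11.isIntegralHom_geomPt s
  haveI : Surjective σ := AGFImage11.surjective_fieldMap σ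
  exact AGFImage11.isIso_of_isIso_map σ f

variable {S : Scheme.{u}} {G H ZH R Q : Over S} [GrpObj G] [GrpObj H] [GrpObj ZH] [GrpObj R] [GrpObj Q]

/-- A torus commuting with a reductive subgroup of type (R) lies in its radical. -/
theorem le_radical_of_commute (hG : Red.IsReductive G) {i : H ⟶ G} (hi : RedSub.IsTypeR i)
    {jz : ZH ⟶ H} (hZH : Red.IsCentre jz) {r : R ⟶ ZH} (hR : Red.IsMaximalTorus r)
    (hQ : Red.IsTorus Q) (q : Q ⟶ G) [IsMonHom q]
    (hq : ∀ (X : Over S) (h : X ⟶ H) (t : X ⟶ Q), (h ≫ i) * (t ≫ q) = (t ≫ q) * (h ≫ i)) :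
    ∃ m : Q ⟶ R, m ≫ r ≫ jz ≫ i = q := by
  haveI := hi.1.1
  haveI := hZH.1
  haveI := hZH.2.1
  haveI := hR.1
  haveI := hR.2.1
  haveI : IsAffineHom G.hom := hG.1
  haveI : Smooth G.hom := hG.2.1
  haveI : IsImmersion i.left := hi.1.2
  haveI : Mono i := (Over.forget S).mono_of_mono_map (inferInstanceAs (Mono i.left))
  let ρ : R ⟶ G := r ≫ jz ≫ i
  haveI : IsMonHom ρ := inferInstanceAs (IsMonHom (r ≫ jz ≫ i))
  haveI : Mono ρ := inferInstanceAs (Mono (r ≫ jz ≫ i))
  obtain ⟨Z, gZ, z, hz, -, -⟩ := MTTransporter.exists_centralizer ρ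
    (CentralFib.locally_of_multTypeFT (MultExt26.isMultTypeFT_of_torus R hR.2.2.1))
  letI := gZ
  haveI := hz.1
  haveI := hz.2.1
  obtain ⟨hs, hl⟩ := CentralTorus.centralizer_sep hR.2.2.1 ρ hz
  haveI := hs
  haveI := hl
  obtain ⟨ρ₀, hρ₀⟩ := (hz.2.2 R ρ).2 fun X x t => by
    rw [← MonObj.mul_comp, ← MonObj.mul_comp, torus_mul_comm hR.2.2.1]
  obtain ⟨q₀, hq₀⟩ := (hz.2.2 Q q).2 fun X x t => by
    have h := hq X (t ≫ r ≫ jz) x
    simp only [ρ, Category.assoc] at h ⊢
    exact h.symm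
  haveI : Mono (ρ₀ ≫ z) := by rw [hρ₀]; infer_instance
  haveI : Mono ρ₀ := mono_of_mono ρ₀ z
  haveI : IsMonHom ρ₀ := BCPoints.isMonHom_of_mul ρ₀ fun X x y => by
    rw [← cancel_mono z, Category.assoc, hρ₀, MonObj.mul_comp, MonObj.mul_comp]
    simp only [Category.assoc, hρ₀]
  haveI : IsMonHom q₀ := BCPoints.isMonHom_of_mul q₀ fun X x y => by
    rw [← cancel_mono z, Category.assoc, hq₀, MonObj.mul_comp, MonObj.mul_comp]
    simp only [Category.assoc, hq₀]
  suffices h : ∃ f : Q ⟶ R, f ≫ ρ₀ = q₀ by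
    obtain ⟨f, hf⟩ := h
    exact ⟨f, by show f ≫ ρ = q; rw [← hρ₀, ← Category.assoc, hf, hq₀]⟩
  refine CentralTorus.exists_le_of_geom hR.2.2.1 hQ ρ₀ q₀ (fun X c t => ?_) fun s => ?_
  · rw [← cancel_mono z, MonObj.mul_comp, MonObj.mul_comp, Category.assoc, hρ₀]
    have h := (hz.2.2 X (c ≫ z)).1 ⟨c, rfl⟩ X (𝟙 X) t
    rwa [Category.id_comp] at h
  let σ := Red.geomPt s
  let F := Over.pullback σ
  haveI : F.IsRightAdjoint := (Over.mapPullbackAdj _).isRightAdjoint
  obtain ⟨T, gT, t, ht, htmax⟩ := hi.2.2.2.2 s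
  haveI := ht
  have hqc : ∀ (X : Over (Spec (CommRingCat.of (AlgebraicClosure (S.residueField s))))) (h : X ⟶ Red.geomFibre s H)
      (u : X ⟶ Red.geomFibre s Q), (h ≫ F.map i) * (u ≫ F.map q) = (u ≫ F.map q) * (h ≫ F.map i) := fun X h u => by
    obtain ⟨h, rfl⟩ := (BCPoints.pt σ H X).surjective h
    obtain ⟨u, rfl⟩ := (BCPoints.pt σ Q X).surjective u
    rw [← BCPoints.pt_comp, ← BCPoints.pt_comp, ← BCPoints.pt_mul, ← BCPoints.pt_mul, hq]
  have hC := Luna12.isCentralizerOf_self (hG.2.2 s) (isMaxTorus htmax)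
  obtain ⟨w, hw⟩ := (hC.2.2 _ (F.map q)).2 fun X x u => by
    have h := hqc X (u ≫ t) x
    simp only [Category.assoc] at h ⊢
    exact h.symm
  let a : Red.geomFibre s Q ⟶ Red.geomFibre s H := w ≫ t
  have ha : a ≫ F.map i = F.map q := by
    rw [Category.assoc]; exact hw
  haveI : IsMonHom (F.map i) := inferInstanceAs (IsMonHom ((Over.pullback σ).map i))
  haveI : IsMonHom (F.map q) := inferInstanceAs (IsMonHom ((Over.pullback σ).map q))
  haveI : Mono (F.map i) := inferInstance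
  haveI : Mono (F.map jz) := inferInstance
  have hZs := MaxTorus26.isCentralizerOf_bc σ hZH
  haveI : IsMonHom (F.map jz) := hZs.1
  obtain ⟨c, hc⟩ := (hZs.2.2 _ a).2 fun X x y => by
    simp only [CategoryTheory.Functor.map_id, Category.comp_id]
    rw [← cancel_mono (F.map i), MonObj.mul_comp, MonObj.mul_comp, Category.assoc, ha]
    exact (hqc X y x).symm
  have hcq : c ≫ F.map jz ≫ F.map i = F.map q := by rw [← Category.assoc, hc, ha]
  haveI : IsMonHom c := BCPoints.isMonHom_of_mul c fun X x y => by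
    rw [← cancel_mono (F.map jz), ← cancel_mono (F.map i), MonObj.mul_comp (x ≫ c) (y ≫ c) (F.map jz),
      MonObj.mul_comp ((x ≫ c) ≫ F.map jz) ((y ≫ c) ≫ F.map jz) (F.map i)]
    simp only [Category.assoc, hcq]
    rw [MonObj.mul_comp]
  haveI : IsMonHom (F.map r) := inferInstanceAs (IsMonHom ((Over.pullback σ).map r))
  haveI : Mono i.left := inferInstance
  haveI : IsSeparated H.hom := by rw [← Over.w i]; infer_instance
  haveI : Mono jz.left := inferInstanceAs (Mono ((Over.forget S).map jz))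
  haveI : IsSeparated ZH.hom := by rw [← Over.w jz]; infer_instance
  haveI : IsSeparated (Red.geomFibre s ZH).hom := inferInstanceAs (IsSeparated (pullback.snd ZH.hom σ))
  obtain ⟨W, _, m, u, v, hm, hmono, hW, hu, hv⟩ := CentralTorus.exists_torus_ge (C := Red.geomFibre s ZH)
    (TorusAb27.isTorus_bc σ R hR.2.2.1) (TorusAb27.isTorus_bc σ Q hQ) (F.map r) c fun X x y => by
      rw [← cancel_mono (F.map jz), MonObj.mul_comp, MonObj.mul_comp]
      have h := (hZs.2.2 _ (F.map jz)).1 ⟨𝟙 _, Category.id_comp _⟩ X (x ≫ F.map r) ((y ≫ c) ≫ F.map jz)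
      simp only [CategoryTheory.Functor.map_id, Category.comp_id] at h
      exact h
  haveI := hm
  haveI := hmono
  haveI := hR.2.2.2 s W m u hW hu
  refine ⟨v ≫ inv u, ?_⟩
  have h1 : inv u ≫ F.map r = m := by rw [IsIso.inv_comp_eq, hu]
  haveI : Mono (F.map z) := inferInstance
  rw [← cancel_mono (F.map z), Category.assoc, ← Functor.map_comp, hρ₀, ← Functor.map_comp, hq₀]
  show (v ≫ inv u) ≫ F.map (r ≫ jz ≫ i) = F.map q
  rw [Functor.map_comp, Category.assoc, ← Category.assoc (inv u), h1, ← Category.assoc v, hv, Functor.map_comp,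
    ← Category.assoc c, hc, ha]

end Groth.Agent.MaxTorImg10.Radical
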