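import Groth.Agent.SGA3xLib.RedCentre26
import Groth.Agent.AlgGrpLib.NoTorusScheme
import Groth.Agent.SGA3cLib.MonoClosed
import Groth.Agent.SGA3cLib.Transporter
import Groth.Agent.SGA3cLib.CentralEqBasic
import Groth.Agent.MultExt26.GmBase
import Groth.Agent.S19598
import Groth.Agent.S3042
import Groth.Agent.SGA7Aut29.PowSurj
import Groth.Agent.TorusAb27.Basic

/-! # A torus meets a unipotent subgroup trivially -/

set_option autoImplicit false
set_option linter.style.haveILetI false
set_option backward.isDefEq.respectTransparency false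
set_option synthInstance.maxHeartbeats 400000
set_option maxHeartbeats 1000000

noncomputable section

universe u

open CategoryTheory CategoryTheory.Limits MonoidalCategory CartesianMonoidalCategory MonObj GrpObj AlgebraicGeometry

namespace Groth.Agent.MaxTorImg10

open SGA3cLib

/-- Over an algebraically closed field a torus meets a connected unipotent subgroup trivially. -/
theorem inter_torus_unip {k : Type u} [Field k] [IsAlgClosed k] {G T U : Over (Spec (CommRingCat.of k))} [GrpObj G]
    [GrpObj T] [GrpObj U] [IsAffine G.left] [LocallyOfFiniteType G.hom] [Smooth U.hom] [QuasiCompact U.hom]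
    [ConnectedSpace U.left] (hT : Red.IsTorus T) (hU : Red.HasNoSubtorus k U) (i : T ⟶ G) [IsMonHom i] [Mono i]
    (j : U ⟶ G) [IsMonHom j] [Mono j] : pullback.fst j i = 1 := by
  haveI : QuasiCompact j.left := by
    haveI : QuasiCompact (j.left ≫ G.hom) := by rw [Over.w]; infer_instance
    exact QuasiCompact.of_comp j.left G.hom
  haveI : IsClosedImmersion j.left := isClosedImmersion_of_mono j
  haveI : IsAffine U.left := isAffine_of_isAffineHom j.left
  obtain ⟨A, _, _, e, he, hem⟩ := HopfQuot.exists_spec (k := k) U
  haveI := he; haveI := hem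
  haveI : IsMonHom (CategoryTheory.inv e) := inferInstanceAs (IsMonHom (asIso e).inv)
  haveI : IsIso e.left := inferInstanceAs (IsIso ((Over.forget _).map e))
  haveI : LocallyOfFiniteType (HopfQuot.spec (k := k) A).hom := by rw [← Over.w e]; infer_instance
  haveI : Algebra.FiniteType k A :=
    RingHom.finiteType_algebraMap.1 ((HasRingHomProperty.Spec_iff (P := @LocallyOfFiniteType)
      (φ := CommRingCat.ofHom (algebraMap k A))).1 ‹LocallyOfFiniteType (HopfQuot.spec (k := k) A).hom›)
  have hA := AlgGrpLib.NoTorus.isUnipotent_of_hasNoSubtorus hU e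
  have hTm := MultExt26.isMultTypeFT_of_torus T hT
  haveI := TrivLocus.locallyOfFinitePresentation_of_multTypeFT _ hTm
  haveI : Mono (pullback.snd j i) := inferInstance
  obtain ⟨gK, hm⟩ := exists_grpObj_of_subgroup (pullback.snd j i)
    (fun W => ⟨pullback.lift 1 1 (by rw [MonObj.one_comp, MonObj.one_comp]), pullback.lift_snd _ _ _⟩)
    (fun W a b => ⟨pullback.lift ((a ≫ pullback.fst j i) * (b ≫ pullback.fst j i))
      ((a ≫ pullback.snd j i) * (b ≫ pullback.snd j i)) (by
        simp only [MonObj.mul_comp, Category.assoc, pullback.condition]), pullback.lift_snd _ _ _⟩)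
    (fun W a => ⟨pullback.lift (a ≫ pullback.fst j i)⁻¹ (a ≫ pullback.snd j i)⁻¹ (by
        simp only [GrpObj.inv_comp, Category.assoc, pullback.condition]), pullback.lift_snd _ _ _⟩)
  haveI := hm
  haveI hfst : IsMonHom (pullback.fst j i) := BCPoints.isMonHom_of_mul _ fun W a b => by
    rw [← cancel_mono j]
    simp only [Category.assoc, pullback.condition, MonObj.mul_comp]
  haveI : IsClosedImmersion (pullback.snd j i).left :=
    MorphismProperty.of_isPullback (P := @IsClosedImmersion)
      (((IsPullback.of_hasPullback j i).map (Over.forget _))) ‹IsClosedImmersion j.left›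
  haveI : LocallyOfFiniteType (pullback j i).hom := by rw [← Over.w (pullback.snd j i)]; infer_instance
  have hK : SGA3x.IsMultTypeFT (pullback j i) :=
    Groth.Agent.S19598.result (pullback j i) T hTm (pullback.snd j i) inferInstance inferInstance inferInstance
  let f : Spec (CommRingCat.of k) ⟶ Spec (CommRingCat.of k) := 𝟙 _
  let w : pullback j i ⟶ Red.bc f (CoactBr.sp k A) :=
    BCPoints.pt f (CoactBr.sp k A) (pullback j i)
      ((Over.mapId _).hom.app (pullback j i) ≫ pullback.fst j i ≫ CategoryTheory.inv e)
  haveI : IsMonHom w := BCPoints.isMonHom_of_mul w fun W a b => by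
    have hnat : ∀ a : W ⟶ pullback j i, a ≫ w = BCPoints.pt f (CoactBr.sp k A) W
        ((Over.mapId _).hom.app W ≫ a ≫ pullback.fst j i ≫ CategoryTheory.inv e) := fun a => by
      rw [← BCPoints.pt_map_comp]
      exact congrArg _ ((Over.mapId _).hom.naturality_assoc a _)
    rw [hnat, hnat, hnat, ← BCPoints.pt_mul]
    simp only [MonObj.mul_comp, MonObj.comp_mul]
  have hw := SGA3xLib.RedCentre26.eq_one_of_unipotent f hA (pullback j i) hK w
  have h1 : BCPoints.pt f (CoactBr.sp k A) (pullback j i)
      ((Over.mapId _).hom.app (pullback j i) ≫ (1 : pullback j i ⟶ CoactBr.sp k A)) = 1 := by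
    rw [MonObj.comp_one]
    have h := BCPoints.pt_mul f (G := CoactBr.sp k A) (X' := pullback j i) 1 1
    rw [_root_.mul_one] at h
    exact mul_left_cancel (h.symm.trans (_root_.mul_one _).symm)
  have h2 : pullback.fst j i ≫ CategoryTheory.inv e = 1 := by
    have := (BCPoints.pt f (CoactBr.sp k A) (pullback j i)).injective (hw.trans h1.symm)
    exact (cancel_epi _).1 this
  rw [← cancel_mono (CategoryTheory.inv e), h2, MonObj.one_comp]

/-- A torus meets a subgroup with connected unipotent fibres trivially. -/
theorem inter_torus_unip_rel {S : Scheme.{u}} {G T U : Over S} [GrpObj G] [GrpObj T] [GrpObj U] [IsAffineHom G.hom]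
    [LocallyOfFiniteType G.hom] (i : T ⟶ G) [IsMonHom i] [Mono i] (hT : Red.IsTorus T) (j : U ⟶ G) [IsMonHom j]
    [IsImmersion j.left] [Smooth U.hom]
    (hfib : ∀ s : S, ConnectedSpace ↥(Red.geomFibre s U).left ∧
      Red.HasNoSubtorus (AlgebraicClosure (S.residueField s)) (Red.geomFibre s U))
    (X : Over S) (y : X ⟶ U) (x : X ⟶ T) (h : y ≫ j = x ≫ i) : y = 1 := by
  haveI : Mono j := Over.mono_of_mono_left _
  let K := pullback j i
  haveI : LocallyOfFiniteType T.hom := by
    haveI := TrivLocus.locallyOfFinitePresentation_of_multTypeFT _ (MultExt26.isMultTypeFT_of_torus T hT)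
    infer_instance
  haveI : LocallyOfFiniteType (pullback.snd j i).left :=
    MorphismProperty.of_isPullback (P := @LocallyOfFiniteType)
      (((IsPullback.of_hasPullback j i).map (Over.forget _))) (inferInstanceAs (LocallyOfFiniteType j.left))
  haveI : LocallyOfFiniteType K.hom := by rw [← Over.w (pullback.snd j i)]; infer_instance
  have hgeo : ∀ s : S, IsIso ((Over.pullback (Red.geomPt s)).map (toUnit K)) := fun s => by
    let F := Over.pullback (Red.geomPt s)
    haveI : F.IsRightAdjoint := (Over.mapPullbackAdj _).isRightAdjoint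
    let i₀ : Red.geomFibre s T ⟶ Red.geomFibre s G := F.map i
    let j₀ : Red.geomFibre s U ⟶ Red.geomFibre s G := F.map j
    haveI : IsMonHom i₀ := inferInstanceAs (IsMonHom ((Over.pullback (Red.geomPt s)).map i))
    haveI : IsMonHom j₀ := inferInstanceAs (IsMonHom ((Over.pullback (Red.geomPt s)).map j))
    haveI : Mono i₀ := inferInstanceAs (Mono (F.map i))
    haveI : Mono j₀ := inferInstanceAs (Mono (F.map j))
    haveI := (hfib s).1
    haveI : IsAffine (Red.geomFibre s G).left := by
      haveI : IsAffineHom (pullback.snd G.hom (Red.geomPt s)) := MorphismProperty.pullback_snd _ _ inferInstance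
      exact isAffine_of_isAffineHom (pullback.snd G.hom (Red.geomPt s))
    haveI : LocallyOfFiniteType (Red.geomFibre s G).hom :=
      inferInstanceAs (LocallyOfFiniteType (pullback.snd G.hom (Red.geomPt s)))
    haveI : Smooth (Red.geomFibre s U).hom := inferInstanceAs (Smooth (pullback.snd U.hom (Red.geomPt s)))
    haveI : QuasiCompact (Red.geomFibre s U).hom := SGA7Aut29.quasiCompact_of_connected _
    have h0 := inter_torus_unip (TorusAb27.isTorus_bc (Red.geomPt s) T hT) (hfib s).2 i₀ j₀
    have hP := (IsPullback.of_hasPullback j i).map F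
    have h1 : F.map (pullback.fst j i) = 1 := by
      have e : hP.isoPullback.hom ≫ pullback.fst j₀ i₀ = F.map (pullback.fst j i) := hP.isoPullback_hom_fst
      rw [← e, h0, MonObj.comp_one]
    let u : (F.obj (𝟙_ (Over S))) ⟶ F.obj K := F.map (pullback.lift 1 1 (by rw [MonObj.one_comp, MonObj.one_comp]))
    refine ⟨u, ?_, ?_⟩
    · haveI : Mono (F.map (pullback.fst j i)) := inferInstance
      rw [← cancel_mono (F.map (pullback.fst j i)), Category.assoc, Category.id_comp]
      simp only [u]
      rw [← F.map_comp, pullback.lift_fst, ← F.map_comp, MonObj.comp_one, h1]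
      exact Functor.map_one F
    · simp only [u]
      rw [← F.map_comp, ← F.map_id]
      exact congrArg F.map (toUnit_unique _ _)
  haveI : Mono K.hom := by
    refine (Groth.Agent.S3042.result _ _ K.hom).2 fun s => ?_
    haveI := hgeo s
    haveI : IsIso ((Over.pullback (Red.geomPt s)).map (toUnit K)).left :=
      (CentralEq.isIso_left_iff _).2 (hgeo s)
    obtain ⟨p⟩ : Nonempty (Spec (CommRingCat.of (AlgebraicClosure (S.residueField s)))) := inferInstance
    have h2 := (CentralEq.field_iff (toUnit K) (MorphismProperty.isomorphisms _) (Red.geomPt s) p).1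
      (MorphismProperty.isomorphisms.infer_property _)
    have hp : (Red.geomPt s).base p = s := by
      rw [Scheme.Hom.comp_apply]; exact Scheme.fromSpecResidueField_apply _ _
    rw [hp] at h2
    haveI : IsIso ((Over.pullback (S.fromSpecResidueField s)).map (toUnit K)).left :=
      (MorphismProperty.isomorphisms.iff _).1 h2
    have e : K.hom.fiberToSpecResidueField s = ((Over.pullback (S.fromSpecResidueField s)).map (toUnit K)).left ≫
        ((Over.pullback (S.fromSpecResidueField s)).obj (𝟙_ (Over S))).hom :=
      (Over.w ((Over.pullback (S.fromSpecResidueField s)).map (toUnit K))).symm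
    rw [e]
    haveI : IsIso ((Over.pullback (S.fromSpecResidueField s)).obj (𝟙_ (Over S))).hom :=
      inferInstanceAs (IsIso (pullback.snd (𝟙 S) (S.fromSpecResidueField s)))
    infer_instance
  let o : 𝟙_ (Over S) ⟶ K := pullback.lift 1 1 (by rw [MonObj.one_comp, MonObj.one_comp])
  have hK : ∀ a b : X ⟶ K, a = b := fun a b =>
    Over.OverMorphism.ext ((cancel_mono K.hom).1 ((Over.w a).trans (Over.w b).symm))
  rw [← pullback.lift_fst y x h, hK (pullback.lift y x h) (toUnit X ≫ o), Category.assoc, pullback.lift_fst,
    MonObj.comp_one]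

end Groth.Agent.MaxTorImg10
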